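import Groth.Agent.Lib.ModM1.Stalk
import Groth.Agent.Lib.TensorMod.PullStalk
import Mathlib.AlgebraicGeometry.Morphisms.ClosedImmersion

/-!
M1: modules killed by the ideal of a closed immersion are direct images.
-/

universe u

open CategoryTheory Limits AlgebraicGeometry Opposite TopologicalSpace TensorProduct

set_option backward.isDefEq.respectTransparency false

namespace Groth.Agent.M1

variable {X Z : Scheme.{u}} (i : Z ⟶ X) [IsClosedImmersion i]

/-- The stalk of a direct image outside the range of a closed immersion vanishes. -/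
theorem eq_zero_stalk_push (N : Z.Modules) {x : X} (hx : x ∉ Set.range i)
    (a : ((Scheme.Modules.pushforward i).obj N).presheaf.stalk x) : a = 0 := by
  obtain ⟨U, hU, s, rfl⟩ := ((Scheme.Modules.pushforward i).obj N).presheaf.germ_exist a
  let W : X.Opens := ⟨(Set.range i)ᶜ, i.isClosedEmbedding.isClosed_range.isOpen_compl⟩
  rw [← germ_mres _ (inf_le_left : U ⊓ W ≤ U) (x := x) ⟨hU, hx⟩ s]
  have h0 : mres ((Scheme.Modules.pushforward i).obj N) (inf_le_left : U ⊓ W ≤ U) s = 0 :=
    section_ext (M := N) (U := i ⁻¹ᵁ (U ⊓ W)) _ _ fun z hz => absurd ⟨z, rfl⟩ hz.2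
  rw [h0, map_zero]

/-- If the ideal of a closed immersion kills the sections over affine opens, the kernel of the
stalk map kills the stalk. -/
theorem smul_stalk_eq_zero (G : X.Modules) (hG : Coh.IsQCoh G)
    (h : ∀ (U : X.affineOpens) (a : Γ(X, U.1)), a ∈ i.ker.ideal U → ∀ s : Γ(G, U.1), a • s = 0)
    (z : Z) (r : X.presheaf.stalk (i z)) (hr : i.stalkMap z r = 0)
    (m : G.presheaf.stalk (i z)) : r • m = 0 := by
  haveI := hG
  obtain ⟨U, hU, hxU, -⟩ := exists_isAffineOpen_mem_and_subset (x := i z) (U := ⊤) trivial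
  obtain ⟨c₁, m₀, hc₁, hm⟩ := exists_germ_smul_eq G hU hxU m
  let := TopCat.Presheaf.algebra_section_stalk X.presheaf (⟨i z, hxU⟩ : U)
  have := hU.isLocalization_stalk ⟨i z, hxU⟩
  obtain ⟨⟨b, c₂⟩, hb⟩ := IsLocalization.surj (hU.primeIdealOf ⟨i z, hxU⟩).asIdeal.primeCompl r
  have hb' : r * X.presheaf.germ U (i z) hxU c₂.1 = X.presheaf.germ U (i z) hxU b := hb
  have hzU : z ∈ i ⁻¹ᵁ U := hxU
  let := TopCat.Presheaf.algebra_section_stalk Z.presheaf (⟨z, hzU⟩ : (i ⁻¹ᵁ U : Z.Opens))
  have := (hU.preimage i).isLocalization_stalk ⟨z, hzU⟩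
  have hb0 : algebraMap Γ(Z, i ⁻¹ᵁ U) (Z.presheaf.stalk z) (i.app U b) = 0 := by
    change Z.presheaf.germ (i ⁻¹ᵁ U) z hzU (i.app U b) = 0
    rw [← Scheme.Hom.germ_stalkMap_apply i U z hxU, ← hb', map_mul, hr, zero_mul]
  obtain ⟨d, hd⟩ := (IsLocalization.map_eq_zero_iff
    ((hU.preimage i).primeIdealOf ⟨z, hzU⟩).asIdeal.primeCompl (Z.presheaf.stalk z) _).mp hb0
  obtain ⟨c, hc⟩ := i.app_surjective U hU d.1
  have hcu : IsUnit (X.presheaf.germ U (i z) hxU c) := by
    refine isUnit_of_map_unit (i.stalkMap z).hom _ ?_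
    rw [Scheme.Hom.germ_stalkMap_apply, hc]
    exact (isUnit_germ_iff (hU.preimage i) hzU d.1).mpr d.2
  have hker : c * b ∈ i.ker.ideal ⟨U, hU⟩ := by
    rw [Scheme.Hom.ker_apply, RingHom.mem_ker, map_mul, hc]
    exact hd
  have h0 := congrArg (G.presheaf.germ U (i z) hxU) (h ⟨U, hU⟩ _ hker m₀)
  rw [germ_smul, map_mul, ← hb', map_zero, ← hm, ← mul_smul] at h0
  have hu : IsUnit (X.presheaf.germ U (i z) hxU c * X.presheaf.germ U (i z) hxU c₂.1 *
      X.presheaf.germ U (i z) hxU c₁) :=
    (hcu.mul ((isUnit_germ_iff hU hxU c₂.1).mpr c₂.2)).mul hc₁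
  refine hu.smul_eq_zero.mp ?_
  rw [← mul_smul]
  refine Eq.trans (congrArg (· • m) ?_) h0
  ring

/-- If the kernel of a surjection kills a module then the module is its own base change. -/
theorem bijective_one_tmul {R S M : Type*} [CommRing R] [CommRing S] [Algebra R S]
    [AddCommGroup M] [Module R M] (hs : Function.Surjective (algebraMap R S))
    (hk : ∀ r : R, algebraMap R S r = 0 → ∀ m : M, r • m = 0) :
    Function.Bijective (fun m : M => (1 : S) ⊗ₜ[R] m) := by
  let σ := Function.surjInv hs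
  have hσ : ∀ s, algebraMap R S (σ s) = s := Function.surjInv_eq hs
  have key : ∀ (r : R) (s : S), algebraMap R S r = s → ∀ m : M, σ s • m = r • m := by
    intro r s h m
    rw [← sub_eq_zero, ← sub_smul]
    exact hk _ (by rw [map_sub, hσ, h, sub_self]) m
  let g : S ⊗[R] M →ₗ[R] M := TensorProduct.lift (LinearMap.mk₂ R (fun s m => σ s • m)
    (fun a b m => by rw [key (σ a + σ b) _ (by rw [map_add, hσ, hσ]), add_smul])
    (fun r a m => by rw [key (r * σ a) _ (by rw [map_mul, hσ, Algebra.smul_def]), mul_smul])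
    (fun a m m' => smul_add _ _ _) (fun r a m => smul_comm _ _ _))
  refine ⟨fun m m' h => ?_, fun w => ?_⟩
  · have := congrArg g h
    simp only [g, TensorProduct.lift.tmul, LinearMap.mk₂_apply, key 1 1 (map_one _), one_smul] at this
    exact this
  · induction w using TensorProduct.induction_on with
    | zero => exact ⟨0, TensorProduct.tmul_zero _ _⟩
    | tmul s m => exact ⟨σ s • m, by simp only [← TensorProduct.smul_tmul, ← Algebra.algebraMap_eq_smul_one, hσ]⟩
    | add a b ha hb =>
      obtain ⟨p, rfl⟩ := ha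
      obtain ⟨q, rfl⟩ := hb
      exact ⟨p + q, TensorProduct.tmul_add _ _ _⟩

/-- A quasi-coherent module killed by the ideal of a closed immersion is the direct image of its pullback. -/
theorem isIso_unit_of_ker_smul (G : X.Modules) (hG : Coh.IsQCoh G)
    (h : ∀ (U : X.affineOpens) (a : Γ(X, U.1)), a ∈ i.ker.ideal U → ∀ s : Γ(G, U.1), a • s = 0) :
    IsIso ((Scheme.Modules.pullbackPushforwardAdjunction i).unit.app G) := by
  let N := (Scheme.Modules.pullback i).obj G
  rw [isIso_iff_stalk]
  intro x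
  by_cases hx : x ∈ Set.range i
  · obtain ⟨z, rfl⟩ := hx
    have hp : Function.Bijective
        (TopCat.Presheaf.stalkPushforward AddCommGrpCat.{u} i.base N.presheaf z) := by
      have := TopCat.Presheaf.stalkPushforward.stalkPushforward_iso_of_isInducing (C := AddCommGrpCat.{u})
        (f := i.base) i.isClosedEmbedding.isInducing N.presheaf z
      exact ConcreteCategory.bijective_of_isIso _
    refine (Function.Bijective.of_comp_iff' hp _).mp ?_
    change Function.Bijective (M2.stalkUnit i z G)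
    have h1 := bijective_one_tmul (R := X.presheaf.stalk (i z)) (S := Z.presheaf.stalk z)
      (M := G.presheaf.stalk (i z)) (i.stalkMap_surjective z) (smul_stalk_eq_zero i G hG h z)
    have h2 : (M2.stalkUnit i z G : G.presheaf.stalk (i z) → N.presheaf.stalk z) =
        (M2.pullStalkEquiv i z G) ∘ fun m => (1 : Z.presheaf.stalk z) ⊗ₜ m :=
      funext fun m => (LinearMap.liftBaseChange_one_tmul _ (M2.stalkUnit i z G) m).symm
    rw [h2]
    exact (M2.pullStalkEquiv i z G).bijective.comp h1
  · have hS : ∀ a : G.presheaf.stalk x, a = 0 := by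
      intro a
      haveI := hG
      obtain ⟨U, hU, hxU, -⟩ := exists_isAffineOpen_mem_and_subset (x := x) (U := ⊤) trivial
      obtain ⟨c, m, hc, hm⟩ := exists_germ_smul_eq G hU hxU a
      have hx' : x ∉ i.ker.support := fun h' => hx <| by
        have h'' : x ∈ closure (Set.range i) := by rw [← Scheme.Hom.support_ker]; exact h'
        rwa [i.isClosedEmbedding.isClosed_range.closure_eq] at h''
      rw [Scheme.IdealSheafData.mem_support_iff_of_mem (U := ⟨U, hU⟩) hxU] at hx'
      rw [Scheme.mem_zeroLocus_iff] at hx'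
      push Not at hx'
      obtain ⟨b, hb, hxb⟩ := hx'
      have h0 := congrArg (G.presheaf.germ U x hxU) (h ⟨U, hU⟩ b hb m)
      rw [germ_smul, map_zero, ← hm, ← mul_smul] at h0
      exact (((X.mem_basicOpen b x hxU).mp hxb).mul hc).smul_eq_zero.mp h0
    refine ⟨fun a b _ => (hS a).trans (hS b).symm, fun b => ⟨0, ?_⟩⟩
    exact (map_zero _).trans (eq_zero_stalk_push i N hx b).symm

end Groth.Agent.M1
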