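import Mathlib.AlgebraicGeometry.Modules.Sheaf
import Mathlib.Algebra.Category.ModuleCat.Sheaf.Colimits
import Mathlib.Algebra.Category.ModuleCat.Sheaf.Limits
import Mathlib.Algebra.Category.ModuleCat.Presheaf.Colimits
import Mathlib.Algebra.Category.ModuleCat.Presheaf.EpiMono
import Mathlib.Algebra.Category.ModuleCat.Stalk
import Mathlib.Algebra.Category.Grp.Abelian
import Mathlib.Algebra.Category.Grp.AB
import Mathlib.Algebra.Category.Grp.EpiMono
import Mathlib.Topology.Sheaves.Abelian
import Mathlib.Topology.Sheaves.AddCommGrpCat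
import Mathlib.CategoryTheory.Adjunction.Limits
import Mathlib.CategoryTheory.Limits.FunctorCategory.Finite
import Mathlib.CategoryTheory.Abelian.Exact

/-!
M1: the underlying-abelian-sheaf functor of `X.Modules` is exact (preserves all colimits and finite
limits); stalk functor; mono / epi / iso / exactness tested on stalks.
-/

universe u v u' v'

open CategoryTheory Limits AlgebraicGeometry Opposite TopologicalSpace

namespace Groth.Agent.M1

section general

variable {C : Type u'} [Category.{v'} C] {J : GrothendieckTopology C} {R : Sheaf J RingCat.{u}}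
  [HasSheafify J AddCommGrpCat.{u}] [J.WEqualsLocallyBijective AddCommGrpCat.{u}]
  {K : Type*} [Category K] [HasColimitsOfShape K AddCommGrpCat.{u}]

/-- `toSheaf` preserves colimits. -/
instance toSheaf_preservesColimitsOfShape :
    PreservesColimitsOfShape K (SheafOfModules.toSheaf.{u} R) := by
  refine ⟨fun {F} => ?_⟩
  let α : R.obj ⟶ R.obj := 𝟙 R.obj
  let adj := PresheafOfModules.sheafificationAdjunction.{u} α
  let G : K ⥤ PresheafOfModules.{u} R.obj :=
    F ⋙ SheafOfModules.forget _ ⋙ PresheafOfModules.restrictScalars α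
  have hpres : PreservesColimit G
      (PresheafOfModules.sheafification.{u} α ⋙ SheafOfModules.toSheaf R) :=
    preservesColimit_of_natIso G (PresheafOfModules.sheafificationCompToSheaf α).symm
  let e : G ⋙ PresheafOfModules.sheafification.{u} α ≅ F :=
    Functor.associator _ _ _ ≪≫ Functor.isoWhiskerLeft F (asIso adj.counit) ≪≫ F.rightUnitor
  have : PreservesColimit (G ⋙ PresheafOfModules.sheafification.{u} α)
      (SheafOfModules.toSheaf R) := by
    let c := colimit.cocone G
    have hc : IsColimit c := colimit.isColimit G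
    haveI : PreservesColimit G (PresheafOfModules.sheafification.{u} α) :=
      (adj.leftAdjoint_preservesColimits).preservesColimitsOfShape.preservesColimit
    refine preservesColimit_of_preserves_colimit_cocone
      (isColimitOfPreserves (PresheafOfModules.sheafification.{u} α) hc) ?_
    exact isColimitOfPreserves (PresheafOfModules.sheafification.{u} α ⋙ SheafOfModules.toSheaf R) hc
  exact preservesColimit_of_iso_diagram _ e

end general

variable {X : Scheme.{u}}

/-- The underlying abelian sheaf of an `O_X`-module, with values in sheaves on the space. -/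
noncomputable abbrev toShAb (X : Scheme.{u}) : X.Modules ⥤ TopCat.Sheaf AddCommGrpCat.{u} X.toPresheafedSpace.carrier :=
  SheafOfModules.toSheaf X.ringCatSheaf

/-- The stalk at `x` of an `O_X`-module, as an abelian group. -/
noncomputable abbrev stalkAb (x : X) : X.Modules ⥤ AddCommGrpCat.{u} :=
  Scheme.Modules.toPresheaf X ⋙ TopCat.Presheaf.stalkFunctor AddCommGrpCat.{u} x

instance toShAb_preservesColimitsOfShape {K : Type u} [SmallCategory K] :
    PreservesColimitsOfShape K (toShAb X) :=
  toSheaf_preservesColimitsOfShape (R := X.ringCatSheaf)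

instance toShAb_preservesFiniteColimits : PreservesFiniteColimits (toShAb X) where
  preservesFiniteColimits K := toSheaf_preservesColimitsOfShape (R := X.ringCatSheaf)

instance toShAb_preservesFiniteLimits : PreservesFiniteLimits (toShAb X) :=
  inferInstanceAs (PreservesFiniteLimits (SheafOfModules.toSheaf X.ringCatSheaf))

instance : (toShAb X).Faithful := inferInstanceAs (SheafOfModules.toSheaf X.ringCatSheaf).Faithful

instance : (toShAb X).ReflectsIsomorphisms :=
  inferInstanceAs (SheafOfModules.toSheaf X.ringCatSheaf).ReflectsIsomorphisms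

instance stalkAb_preservesFiniteLimits (x : X) : PreservesFiniteLimits (stalkAb x) :=
  have : PreservesFiniteLimits
      (toShAb X ⋙ TopCat.Sheaf.forget _ _ ⋙ TopCat.Presheaf.stalkFunctor AddCommGrpCat.{u} x) :=
    comp_preservesFiniteLimits _ _
  this

instance stalkAb_preservesFiniteColimits (x : X) : PreservesFiniteColimits (stalkAb x) :=
  have : PreservesFiniteColimits
      (toShAb X ⋙ TopCat.Sheaf.forget _ _ ⋙ TopCat.Presheaf.stalkFunctor AddCommGrpCat.{u} x) :=
    comp_preservesFiniteColimits _ _
  this

instance stalkAb_additive (x : X) : (stalkAb x).Additive := Functor.additive_of_preserves_binary_products _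

lemma exact_iff_stalk (S : ShortComplex X.Modules) :
    S.Exact ↔ ∀ x : X, (S.map (stalkAb x)).Exact := by
  rw [← ShortComplex.exact_map_iff_of_faithful S (toShAb X),
    TopCat.Sheaf.exact_iff_stalkFunctor_map_exact]
  exact Iff.rfl

lemma exact_iff_stalk_eq_zero (S : ShortComplex X.Modules) :
    S.Exact ↔ ∀ (x : X) (b : S.X₂.presheaf.stalk x), (stalkAb x).map S.g b = 0 →
      ∃ a, (stalkAb x).map S.f a = b := by
  rw [exact_iff_stalk]
  exact forall_congr' fun x => ShortComplex.ab_exact_iff _

lemma isIso_iff_stalk {M N : X.Modules} (f : M ⟶ N) :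
    IsIso f ↔ ∀ x : X, Function.Bijective ((stalkAb x).map f) := by
  rw [← isIso_iff_of_reflects_iso f (toShAb X), TopCat.Presheaf.isIso_iff_stalkFunctor_map_iso]
  exact forall_congr' fun x => ConcreteCategory.isIso_iff_bijective _

lemma mono_iff_stalk {M N : X.Modules} (f : M ⟶ N) :
    Mono f ↔ ∀ x : X, Function.Injective ((stalkAb x).map f) := by
  rw [← (toShAb X).mono_map_iff_mono f, TopCat.Presheaf.mono_iff_stalk_mono]
  exact forall_congr' fun x => AddCommGrpCat.mono_iff_injective _

lemma mono_iff_app {M N : X.Modules} (f : M ⟶ N) :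
    Mono f ↔ ∀ U : X.Opens, Function.Injective (f.app U) := by
  rw [← (Scheme.Modules.toPresheafOfModules X).mono_map_iff_mono f]
  refine ⟨fun h U => @PresheafOfModules.injective_of_mono _ _ _ _ _ f.val h (op U),
    fun h => PresheafOfModules.mono_of_injective (f := f.val) fun {U} => h U.unop⟩

lemma app_injective {M N : X.Modules} (f : M ⟶ N) [Mono f] (U : X.Opens) :
    Function.Injective (f.app U) := (mono_iff_app f).mp inferInstance U

lemma epi_iff_stalk {M N : X.Modules} (f : M ⟶ N) :
    Epi f ↔ ∀ x : X, Function.Surjective ((stalkAb x).map f) := by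
  constructor
  · intro h x
    exact (AddCommGrpCat.epi_iff_surjective ((stalkAb x).map f)).mp inferInstance
  · intro h
    have h2 : (ShortComplex.mk f (0 : N ⟶ N) comp_zero).Exact := by
      rw [exact_iff_stalk_eq_zero]
      exact fun x b _ => h x b
    exact (ShortComplex.exact_iff_epi _ rfl).mp h2

lemma germ_naturality {M N : X.Modules} (f : M ⟶ N) (U : X.Opens) (x : X) (hx : x ∈ U) (s : Γ(M, U)) :
    (stalkAb x).map f (M.presheaf.germ U x hx s) = N.presheaf.germ U x hx (f.app U s) :=
  TopCat.Presheaf.stalkFunctor_map_germ_apply U x hx f.mapPresheaf s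

lemma section_ext {M : X.Modules} {U : X.Opens} (s t : Γ(M, U))
    (h : ∀ (x : X) (hx : x ∈ U), M.presheaf.germ U x hx s = M.presheaf.germ U x hx t) : s = t :=
  TopCat.Presheaf.section_ext ⟨_, M.isSheaf⟩ U s t h

lemma epi_iff_locally_surjective {M N : X.Modules} (f : M ⟶ N) :
    Epi f ↔ ∀ (U : X.Opens) (t : Γ(N, U)) (x : X), x ∈ U →
      ∃ (V : X.Opens) (hV : V ≤ U), x ∈ V ∧ ∃ s : Γ(M, V), f.app V s = N.presheaf.map (homOfLE hV).op t := by
  rw [epi_iff_stalk]
  constructor
  · intro h U t x hx
    obtain ⟨a, ha⟩ := h x (N.presheaf.germ U x hx t)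
    obtain ⟨W, hxW, s, rfl⟩ := M.presheaf.exists_germ_eq a
    rw [germ_naturality] at ha
    obtain ⟨V, hxV, i₁, i₂, he⟩ := N.presheaf.germ_eq x hxW hx _ _ ha
    refine ⟨V, i₂.le, hxV, M.presheaf.map i₁.op s, ?_⟩
    have := ConcreteCategory.congr_hom (f.mapPresheaf.naturality i₁.op) s
    simp only [ConcreteCategory.comp_apply, Scheme.Modules.mapPresheaf_app, unop_op] at this
    rw [this, he]
    rfl
  · intro h x b
    obtain ⟨U, hxU, t, rfl⟩ := N.presheaf.exists_germ_eq b
    obtain ⟨V, hV, hxV, s, hs⟩ := h U t x hxU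
    refine ⟨M.presheaf.germ V x hxV s, ?_⟩
    rw [germ_naturality, hs]
    exact N.presheaf.germ_res_apply (homOfLE hV) x hxV t

/-- Left exactness of sections. -/
lemma sections_exact {S : ShortComplex X.Modules} (h : S.Exact) [Mono S.f] (U : X.Opens)
    (b : Γ(S.X₂, U)) (hb : S.g.app U b = 0) : ∃ a, S.f.app U a = b :=
  TopCat.Sheaf.sections_exact_of_left_exact
    (S := S.map (toShAb X)) ((ShortComplex.exact_map_iff_of_faithful S (toShAb X)).mpr h)
    (inferInstanceAs (Mono ((toShAb X).map S.f))) b hb

lemma map_app_eq {M N : X.Modules} (f : M ⟶ N) {U V : X.Opens} (i : V ≤ U) (s : Γ(M, U)) :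
    f.app V (M.presheaf.map (homOfLE i).op s) = N.presheaf.map (homOfLE i).op (f.app U s) :=
  ConcreteCategory.congr_hom (f.mapPresheaf.naturality (homOfLE i).op) s

end Groth.Agent.M1
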