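import Mathlib.AlgebraicGeometry.Modules.Tilde
import Mathlib.AlgebraicGeometry.Morphisms.QuasiSeparated
import Groth.Agent.Lib.ModM1.Exact

/-!
M1: sections of modules over `U ⊓ D(f)` versus sections over `U` (localisation at a global function),
gluing, and the qcqs lemma.
-/

universe u

open CategoryTheory Limits AlgebraicGeometry Opposite TopologicalSpace

namespace Groth.Agent.M1

variable {X : Scheme.{u}}

/-- Restriction of a global function to an open. -/
noncomputable abbrev rs (U : X.Opens) (f : Γ(X, ⊤)) : Γ(X, U) :=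
  X.presheaf.map (homOfLE (le_top : U ≤ ⊤)).op f

/-- Restriction of sections of a module. -/
noncomputable abbrev mres (M : X.Modules) {U V : X.Opens} (h : V ≤ U) : Γ(M, U) ⟶ Γ(M, V) :=
  M.presheaf.map (homOfLE h).op

@[simp] lemma mres_id (M : X.Modules) {U : X.Opens} (h : U ≤ U) (s : Γ(M, U)) : mres M h s = s :=
  ConcreteCategory.congr_hom (M.presheaf.map_id (op U)) s

lemma mres_mres (M : X.Modules) {U V W : X.Opens} (h : V ≤ U) (h' : W ≤ V) (s : Γ(M, U)) :
    mres M h' (mres M h s) = mres M (h'.trans h) s :=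
  (ConcreteCategory.congr_hom (M.presheaf.map_comp (homOfLE h).op (homOfLE h').op) s).symm

lemma rs_rs {U V : X.Opens} (h : V ≤ U) (f : Γ(X, ⊤)) :
    X.presheaf.map (homOfLE h).op (rs U f) = rs V f :=
  (ConcreteCategory.congr_hom (X.presheaf.map_comp (homOfLE (le_top : U ≤ ⊤)).op (homOfLE h).op) f).symm

lemma mres_pow_smul (M : X.Modules) {U V : X.Opens} (h : V ≤ U) (f : Γ(X, ⊤)) (n : ℕ) (s : Γ(M, U)) :
    mres M h (rs U f ^ n • s) = rs V f ^ n • mres M h s := by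
  rw [Scheme.Modules.map_smul, map_pow, rs_rs]

lemma app_pow_smul {M N : X.Modules} (φ : M ⟶ N) (U : X.Opens) (f : Γ(X, ⊤)) (n : ℕ) (s : Γ(M, U)) :
    φ.app U (rs U f ^ n • s) = rs U f ^ n • φ.app U s := φ.app_smul _ _

lemma app_mres {M N : X.Modules} (φ : M ⟶ N) {U V : X.Opens} (h : V ≤ U) (s : Γ(M, U)) :
    φ.app V (mres M h s) = mres N h (φ.app U s) := map_app_eq φ h s

lemma isUnit_rs {f : Γ(X, ⊤)} {V : X.Opens} (h : V ≤ X.basicOpen f) : IsUnit (rs V f) := by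
  have h1 : IsUnit (rs (X.basicOpen f) f) := X.toRingedSpace.isUnit_res_basicOpen f
  rw [← rs_rs h f]
  exact h1.map _

lemma eq_zero_of_pow_smul {M : X.Modules} {f : Γ(X, ⊤)} {V : X.Opens} (h : V ≤ X.basicOpen f)
    {n : ℕ} {s : Γ(M, V)} (hs : rs V f ^ n • s = 0) : s = 0 :=
  ((isUnit_rs h).pow n).smul_eq_zero.mp hs

lemma modules_eq_of_locally_eq (M : X.Modules) {ι : Type*} (U : X.Opens) (V : ι → X.Opens)
    (hV : ∀ i, V i ≤ U) (hU : U ≤ ⨆ i, V i) (s t : Γ(M, U))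
    (h : ∀ i, mres M (hV i) s = mres M (hV i) t) : s = t :=
  TopCat.Sheaf.eq_of_locally_eq' ⟨_, M.isSheaf⟩ V U (fun i => homOfLE (hV i)) hU s t h

/-- Every section over `U` killed on `U ⊓ D(f)` is killed by a power of `f`. -/
def LocInj (M : X.Modules) (f : Γ(X, ⊤)) (U : X.Opens) : Prop :=
  ∀ t : Γ(M, U), mres M (inf_le_left : U ⊓ X.basicOpen f ≤ U) t = 0 → ∃ n, rs U f ^ n • t = 0

/-- Every section over `U ⊓ D(f)` extends to `U` after multiplication by a power of `f`. -/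
def LocSurj (M : X.Modules) (f : Γ(X, ⊤)) (U : X.Opens) : Prop :=
  ∀ s : Γ(M, U ⊓ X.basicOpen f), ∃ (n : ℕ) (t : Γ(M, U)),
    mres M (inf_le_left : U ⊓ X.basicOpen f ≤ U) t = rs (U ⊓ X.basicOpen f) f ^ n • s

lemma LocInj.of_iSup {M : X.Modules} {f : Γ(X, ⊤)} {ι : Type*} [Finite ι] {U : X.Opens}
    (V : ι → X.Opens) (hV : U = ⨆ i, V i) (h : ∀ i, LocInj M f (V i)) : LocInj M f U := by
  intro t ht
  have hle (i : ι) : V i ≤ U := hV ▸ le_iSup V i
  have (i : ι) : ∃ n, rs (V i) f ^ n • mres M (hle i) t = 0 := by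
    apply h i
    rw [mres_mres, ← mres_mres M (inf_le_left : U ⊓ X.basicOpen f ≤ U)
      (le_inf (inf_le_left.trans (hle i)) inf_le_right : V i ⊓ X.basicOpen f ≤ U ⊓ X.basicOpen f),
      ht, map_zero]
  choose n hn using this
  refine ⟨⨆ i, n i, modules_eq_of_locally_eq M U V hle hV.le _ _ fun i => ?_⟩
  have hi : n i ≤ ⨆ i, n i := le_ciSup (Finite.bddAbove_range _) i
  rw [map_zero, mres_pow_smul, ← Nat.sub_add_cancel hi, pow_add, mul_smul, hn, smul_zero]

/-- Gluing of local extensions of one section. -/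
lemma exists_extend_of_iSup {M : X.Modules} {f : Γ(X, ⊤)} {ι : Type*} [Finite ι] {U : X.Opens}
    (V : ι → X.Opens) (hV : U = ⨆ i, V i) (s : Γ(M, U ⊓ X.basicOpen f))
    (hloc : ∀ i, ∃ (n : ℕ) (t : Γ(M, V i)), mres M (inf_le_left : V i ⊓ X.basicOpen f ≤ V i) t =
      rs (V i ⊓ X.basicOpen f) f ^ n •
      mres M (inf_le_inf_right _ (hV ▸ le_iSup V i) : V i ⊓ X.basicOpen f ≤ U ⊓ X.basicOpen f) s)
    (hinj : ∀ i j, LocInj M f (V i ⊓ V j)) :
    ∃ (n : ℕ) (t : Γ(M, U)), mres M (inf_le_left : U ⊓ X.basicOpen f ≤ U) t = rs (U ⊓ X.basicOpen f) f ^ n • s := by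
  have hle (i : ι) : V i ≤ U := hV ▸ le_iSup V i
  choose n t₀ ht₀ using hloc
  obtain ⟨N, t, ht⟩ : ∃ (N : ℕ) (t : ∀ i, Γ(M, V i)), ∀ i,
      mres M (inf_le_left : V i ⊓ X.basicOpen f ≤ V i) (t i) =
        rs (V i ⊓ X.basicOpen f) f ^ N • mres M (inf_le_inf_right _ (hle i)) s := by
    refine ⟨⨆ i, n i, fun i => rs (V i) f ^ ((⨆ i, n i) - n i) • t₀ i, fun i => ?_⟩
    have hi : n i ≤ ⨆ i, n i := le_ciSup (Finite.bddAbove_range _) i
    rw [mres_pow_smul, ht₀ i, ← mul_smul, ← pow_add, Nat.sub_add_cancel hi]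
  have hK (i j : ι) : ∃ k, rs (V i ⊓ V j) f ^ k •
      (mres M inf_le_left (t i) - mres M inf_le_right (t j)) = 0 := by
    apply hinj i j
    rw [map_sub, mres_mres, mres_mres,
      ← mres_mres M (inf_le_left : V i ⊓ X.basicOpen f ≤ V i)
        (inf_le_inf_right _ inf_le_left : V i ⊓ V j ⊓ X.basicOpen f ≤ V i ⊓ X.basicOpen f),
      ← mres_mres M (inf_le_left : V j ⊓ X.basicOpen f ≤ V j)
        (inf_le_inf_right _ inf_le_right : V i ⊓ V j ⊓ X.basicOpen f ≤ V j ⊓ X.basicOpen f),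
      ht, ht, mres_pow_smul, mres_pow_smul, mres_mres, mres_mres, sub_self]
  choose k hk using hK
  let K := ⨆ i, ⨆ j, k i j
  have hagree (i j : ι) : mres M (inf_le_left : V i ⊓ V j ≤ V i) (rs (V i) f ^ K • t i) =
      mres M inf_le_right (rs (V j) f ^ K • t j) := by
    have hij : k i j ≤ K :=
      le_ciSup_of_le (Finite.bddAbove_range _) i (le_ciSup (Finite.bddAbove_range _) j)
    rw [← sub_eq_zero, mres_pow_smul, mres_pow_smul, ← smul_sub, ← Nat.sub_add_cancel hij,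
      pow_add, mul_smul, hk, smul_zero]
  obtain ⟨T, hT, -⟩ := TopCat.Sheaf.existsUnique_gluing' ⟨_, M.isSheaf⟩ V U
    (fun i => homOfLE (hle i)) hV.le (fun i => rs (V i) f ^ K • t i) (fun i j => hagree i j)
  have hT' (i : ι) : mres M (hle i) T = rs (V i) f ^ K • t i := hT i
  refine ⟨K + N, T, modules_eq_of_locally_eq M _ (fun i => V i ⊓ X.basicOpen f)
    (fun i => inf_le_inf_right _ (hle i)) (by rw [hV, iSup_inf_eq]) _ _ fun i => ?_⟩
  rw [mres_mres, ← mres_mres M (hle i) (inf_le_left : V i ⊓ X.basicOpen f ≤ V i), hT',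
    mres_pow_smul, ht, mres_pow_smul, pow_add, mul_smul]

lemma LocSurj.of_iSup {M : X.Modules} {f : Γ(X, ⊤)} {ι : Type*} [Finite ι] {U : X.Opens}
    (V : ι → X.Opens) (hV : U = ⨆ i, V i) (h : ∀ i, LocSurj M f (V i))
    (hinj : ∀ i j, LocInj M f (V i ⊓ V j)) : LocSurj M f U :=
  fun s => exists_extend_of_iSup V hV s (fun i => h i _) hinj

section transfer

variable {Y : Scheme.{u}} (j : Y ⟶ X) [IsOpenImmersion j]

lemma appIso_inv_rs (W : Y.Opens) (f : Γ(X, ⊤)) :
    (j.appIso W).inv (rs W (j.appTop f)) = rs (j ''ᵁ W) f := by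
  apply ((ConcreteCategory.isIso_iff_bijective (j.appIso W).hom).mp inferInstance).1
  rw [← ConcreteCategory.comp_apply, Iso.inv_hom_id, ConcreteCategory.id_apply]
  simp only [rs, ← ConcreteCategory.comp_apply]
  congr 2
  rw [Scheme.Hom.appIso_hom', Scheme.Hom.map_appLE, Scheme.Hom.appTop, Scheme.Hom.app_eq_appLE]
  exact Scheme.Hom.appLE_map ..

lemma restrict_pow_smul (M : X.Modules) (W : Y.Opens) (f : Γ(X, ⊤)) (n : ℕ) (s : Γ(M.restrict j, W)) :
    (M.restrictAppIso j W).hom (rs W (j.appTop f) ^ n • s) =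
      rs (j ''ᵁ W) f ^ n • (M.restrictAppIso j W).hom s := by
  rw [Scheme.Modules.smul_restrictAppIso_hom_apply, map_pow, appIso_inv_rs]

lemma image_inf_basicOpen (W : Y.Opens) (f : Γ(X, ⊤)) :
    j ''ᵁ (W ⊓ Y.basicOpen (j.appTop f)) = j ''ᵁ W ⊓ X.basicOpen f := by
  rw [← Scheme.preimage_basicOpen_top]
  apply Opens.ext
  exact Set.image_inter_preimage j (W : Set Y) (X.basicOpen f : Set X)

lemma LocInj.of_restrict {M : X.Modules} {f : Γ(X, ⊤)} {W : Y.Opens}
    (h : LocInj (M.restrict j) (j.appTop f) W) : LocInj M f (j ''ᵁ W) := by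
  intro t ht
  obtain ⟨n, hn⟩ := h ((M.restrictAppIso j W).inv t) (by
    change mres M _ t = 0
    rw [← mres_mres M (inf_le_left : j ''ᵁ W ⊓ X.basicOpen f ≤ j ''ᵁ W)
      (image_inf_basicOpen j W f).le, ht, map_zero])
  refine ⟨n, ?_⟩
  have := congr((M.restrictAppIso j W).hom $hn)
  rwa [restrict_pow_smul, map_zero, Iso.inv_hom_id_apply] at this

lemma LocSurj.of_restrict {M : X.Modules} {f : Γ(X, ⊤)} {W : Y.Opens}
    (h : LocSurj (M.restrict j) (j.appTop f) W) : LocSurj M f (j ''ᵁ W) := by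
  intro s
  obtain ⟨n, t, ht⟩ := h ((M.restrictAppIso j _).inv (mres M (image_inf_basicOpen j W f).le s))
  refine ⟨n, (M.restrictAppIso j W).hom t, ?_⟩
  have := congr((M.restrictAppIso j _).hom $ht)
  rw [restrict_pow_smul, Iso.inv_hom_id_apply, ← mres_pow_smul] at this
  apply Function.LeftInverse.injective
    (g := mres M (image_inf_basicOpen j W f).ge) (f := mres M (image_inf_basicOpen j W f).le)
    (fun x => by rw [mres_mres]; exact mres_id M _ x)
  rw [mres_mres]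
  exact this

end transfer

end Groth.Agent.M1
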