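import Mathlib.AlgebraicGeometry.Modules.Tilde
import Mathlib.Algebra.Homology.ShortComplex.ExactFunctor
import Mathlib.Algebra.Category.ModuleCat.EpiMono
import Mathlib.Algebra.Category.ModuleCat.Abelian
import Groth.Prelude.Def_Coh
import Groth.Agent.Lib.ModM1.Exact
import Groth.Agent.Lib.ModM1.Loc

/-!
M1: quasi-coherent modules on `Spec R`: `tilde` is exact, kernels / cokernels / colimits / extensions,
exactness of global sections; sections over `U ⊓ D(f)` on arbitrary schemes for qc(qs) opens.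
-/

universe u

open CategoryTheory Limits AlgebraicGeometry Opposite TopologicalSpace

namespace Groth.Agent.M1

lemma mono_of_basis {X : Scheme.{u}} {M N : X.Modules} (φ : M ⟶ N) (B : Set X.Opens)
    (hB : Opens.IsBasis B) (h : ∀ U ∈ B, Function.Injective (φ.app U)) : Mono φ := by
  rw [mono_iff_stalk]
  intro x
  rw [injective_iff_map_eq_zero]
  intro a ha
  obtain ⟨U, hxU, s, rfl⟩ := M.presheaf.exists_germ_eq a
  rw [germ_naturality] at ha
  have ha' : N.presheaf.germ U x hxU (φ.app U s) = N.presheaf.germ U x hxU 0 :=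
    ha.trans (map_zero _).symm
  obtain ⟨W, hxW, i₁, i₂, he⟩ := N.presheaf.germ_eq x hxU hxU _ _ ha'
  obtain ⟨V, hVB, hxV, hVW⟩ := Opens.isBasis_iff_nbhd.mp hB hxW
  have hVU : V ≤ U := hVW.trans i₁.le
  have h1 : mres N hVU (φ.app U s) = 0 := by
    rw [← mres_mres N i₁.le hVW]
    refine (congrArg _ he).trans ?_
    rw [map_zero, map_zero]
  rw [← app_mres] at h1
  have h2 : mres M hVU s = 0 := h V hVB (by rw [h1, map_zero])
  rw [← M.presheaf.germ_res_apply (homOfLE hVU) x hxV]
  change M.presheaf.germ V x hxV (mres M hVU s) = 0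
  rw [h2, map_zero]

variable {R : CommRingCat.{u}}

/-- Basic open of `Spec R`, with the type of opens of the scheme. -/
noncomputable abbrev bo (g : R) : (Spec R).Opens := PrimeSpectrum.basicOpen g

lemma isBasis_bo : Opens.IsBasis (Set.range (bo (R := R))) := PrimeSpectrum.isBasis_basic_opens

/-- `tilde` preserves monomorphisms (localisation is exact). -/
lemma tilde_map_mono {M N : ModuleCat.{u} R} (φ : M ⟶ N) [Mono φ] : Mono (tilde.map φ) := by
  refine mono_of_basis _ _ isBasis_bo ?_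
  rintro _ ⟨g, rfl⟩
  have hφ : Function.Injective φ := (ModuleCat.mono_iff_injective φ).mp inferInstance
  let LM := (tilde.toOpen M (bo g)).hom
  let LN := (tilde.toOpen N (bo g)).hom
  let ψ := ((modulesSpecToSheaf.map (tilde.map φ)).1.app (op (bo g))).hom
  have hψ (m : M) : ψ (LM m) = LN (φ m) :=
    ConcreteCategory.congr_hom (tilde.toOpen_map_app φ (bo g)) m
  change Function.Injective ψ
  rw [injective_iff_map_eq_zero]
  intro s hs
  obtain ⟨⟨m, c⟩, hm⟩ := IsLocalizedModule.surj (.powers g) LM s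
  change (c : R) • s = LM m at hm
  have h1 : LN (φ m) = 0 := by rw [← hψ, ← hm, map_smul, hs, smul_zero]
  obtain ⟨d, hd⟩ := (IsLocalizedModule.eq_zero_iff (.powers g) LN).mp h1
  have h2 : LM m = 0 := (IsLocalizedModule.eq_zero_iff (.powers g) LM).mpr
    ⟨d, hφ (by rw [map_zero]; exact (map_smul φ.hom (d : R) m).trans hd)⟩
  exact (IsLocalizedModule.map_units LM c |> (Module.End.isUnit_iff _).mp).1
    (show (c : R) • s = (c : R) • (0 : _) by rw [hm, h2, smul_zero])

instance : (tilde.functor R).PreservesMonomorphisms := ⟨fun φ _ => tilde_map_mono φ⟩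

instance : PreservesFiniteColimits (tilde.functor R) :=
  have := (tilde.adjunction (R := R)).leftAdjoint_preservesColimits
  inferInstance

instance tilde_preservesFiniteLimits : PreservesFiniteLimits (tilde.functor R) :=
  (((tilde.functor R).exact_tfae.out 0 3 rfl rfl).mp fun S hS => by
    obtain ⟨h1, h2⟩ := (((tilde.functor R).preservesFiniteColimits_tfae.out 3 0 rfl rfl).mp
      inferInstance) S hS
    haveI := hS.mono_f
    exact { exact := h1, mono_f := inferInstanceAs (Mono ((tilde.functor R).map S.f)), epi_g := h2 }).1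

/-- Every morphism of quasi-coherent modules on `Spec R` is `tilde` of a morphism of modules. -/
lemma exists_tilde_map_iso {M N : (Spec R).Modules} [M.IsQuasicoherent] [N.IsQuasicoherent]
    (φ : M ⟶ N) :
    ∃ (A B : ModuleCat.{u} R) (ψ : A ⟶ B) (a : (tilde.functor R).obj A ≅ M)
      (b : (tilde.functor R).obj B ≅ N), (tilde.functor R).map ψ ≫ b.hom = a.hom ≫ φ :=
  ⟨_, _, moduleSpecΓFunctor.map φ,
    @asIso _ _ _ _ M.fromTildeΓ (Scheme.Modules.isIso_fromTildeΓ_of_isQuasicoherent (R := R) M),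
    @asIso _ _ _ _ N.fromTildeΓ (Scheme.Modules.isIso_fromTildeΓ_of_isQuasicoherent (R := R) N),
    Scheme.Modules.fromTildeΓNatTrans.naturality φ⟩

lemma isQuasicoherent_of_iso {X : Scheme.{u}} {M N : X.Modules} (e : M ≅ N) [M.IsQuasicoherent] :
    N.IsQuasicoherent :=
  (SheafOfModules.isQuasicoherent X.ringCatSheaf).prop_of_iso e ‹_›

lemma isQuasicoherent_kernel_spec {M N : (Spec R).Modules} [M.IsQuasicoherent] [N.IsQuasicoherent]
    (φ : M ⟶ N) : (kernel φ).IsQuasicoherent := by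
  obtain ⟨A, B, ψ, a, b, h⟩ := exists_tilde_map_iso φ
  haveI : ((tilde.functor R).obj (kernel ψ)).IsQuasicoherent := inferInstance
  exact isQuasicoherent_of_iso (PreservesKernel.iso (tilde.functor R) ψ ≪≫ kernel.mapIso _ _ a b h)

lemma isQuasicoherent_cokernel_spec {M N : (Spec R).Modules} [M.IsQuasicoherent] [N.IsQuasicoherent]
    (φ : M ⟶ N) : (cokernel φ).IsQuasicoherent := by
  obtain ⟨A, B, ψ, a, b, h⟩ := exists_tilde_map_iso φ
  haveI : ((tilde.functor R).obj (cokernel ψ)).IsQuasicoherent := inferInstance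
  exact isQuasicoherent_of_iso
    (PreservesCokernel.iso (tilde.functor R) ψ ≪≫ cokernel.mapIso _ _ a b h)

/-- A colimit of quasi-coherent modules on `Spec R` is quasi-coherent. -/
lemma isQuasicoherent_colimit_spec {K : Type u} [SmallCategory K] (F : K ⥤ (Spec R).Modules)
    [∀ k, (F.obj k).IsQuasicoherent] {c : Cocone F} (hc : IsColimit c) : c.pt.IsQuasicoherent := by
  let G : K ⥤ ModuleCat.{u} R := F ⋙ moduleSpecΓFunctor
  haveI (k : K) : IsIso (F.obj k).fromTildeΓ :=
    Scheme.Modules.isIso_fromTildeΓ_of_isQuasicoherent (R := R) (F.obj k)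
  let e : G ⋙ tilde.functor R ≅ F := NatIso.ofComponents
    (fun k => @asIso _ _ _ _ (F.obj k).fromTildeΓ (this k))
    (fun φ => Scheme.Modules.fromTildeΓNatTrans.naturality (F.map φ))
  haveI := (tilde.adjunction (R := R)).leftAdjoint_preservesColimits
  let hcG := isColimitOfPreserves (tilde.functor R) (colimit.isColimit G)
  haveI : ((tilde.functor R).mapCocone (colimit.cocone G)).pt.IsQuasicoherent :=
    inferInstanceAs ((tilde.functor R).obj (colimit G)).IsQuasicoherent
  exact isQuasicoherent_of_iso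
    (IsColimit.coconePointsIsoOfNatIso hcG hc e)

section basic

variable {M : (Spec R).Modules}

/-- The global function attached to `r : R`. -/
noncomputable abbrev gs (r : R) : Γ(Spec R, ⊤) := (Scheme.ΓSpecIso R).inv r

lemma basicOpen_gs (r : R) : (Spec R).basicOpen (gs r) = bo r := basicOpen_eq_of_affine r

lemma bo_mul (g r : R) : bo (g * r) = bo g ⊓ bo r := PrimeSpectrum.basicOpen_mul g r

lemma bo_one : bo (1 : R) = ⊤ := PrimeSpectrum.basicOpen_one

lemma pow_smul_eq (r : R) (n : ℕ) (U : (Spec R).Opens) (s : Γ(M, U)) :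
    r ^ n • s = rs U (gs r) ^ n • s := by
  rw [Scheme.Modules.smul_Spec_def, map_pow, map_pow]
  rfl

lemma exists_pow_smul_eq_res (M : (Spec R).Modules) [M.IsQuasicoherent] (g : R) (t : Γ(M, bo g)) :
    ∃ (k : ℕ) (t₀ : Γ(M, ⊤)), rs (bo g) (gs g) ^ k • t = mres M le_top t₀ := by
  haveI : IsIso M.fromTildeΓ := Scheme.Modules.isIso_fromTildeΓ_of_isQuasicoherent (R := R) M
  haveI := (isIso_fromTildeΓ_iff_isLocalizing M).mp this g
  obtain ⟨⟨t₀, ⟨_, k, rfl⟩⟩, hk⟩ := IsLocalizedModule.surj (Submonoid.powers g)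
    ((modulesSpecToSheaf.obj M).obj.map (bo g).leTop.op).hom t
  exact ⟨k, t₀, (pow_smul_eq g k (bo g) t).symm.trans hk⟩

lemma exists_pow_smul_eq_zero (M : (Spec R).Modules) [M.IsQuasicoherent] (g : R) (t : Γ(M, ⊤))
    (ht : mres M (le_top : bo g ≤ ⊤) t = 0) : ∃ n : ℕ, rs ⊤ (gs g) ^ n • t = 0 := by
  haveI : IsIso M.fromTildeΓ := Scheme.Modules.isIso_fromTildeΓ_of_isQuasicoherent (R := R) M
  haveI := (isIso_fromTildeΓ_iff_isLocalizing M).mp this g
  obtain ⟨⟨_, n, rfl⟩, hn⟩ := (IsLocalizedModule.eq_zero_iff (Submonoid.powers g)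
    ((modulesSpecToSheaf.obj M).obj.map (bo g).leTop.op).hom).mp ht
  exact ⟨n, (pow_smul_eq g n ⊤ t).symm.trans hn⟩

lemma locInj_basicOpen (M : (Spec R).Modules) [M.IsQuasicoherent] (g r : R) :
    LocInj M (gs r) (bo g) := by
  intro t ht
  obtain ⟨k, t₀, hk⟩ := exists_pow_smul_eq_res M g t
  have hle : bo (g * r) ≤ bo g ⊓ (Spec R).basicOpen (gs r) := by rw [basicOpen_gs, bo_mul]
  have h0 : mres M (le_top : bo (g * r) ≤ ⊤) t₀ = 0 := by
    rw [← mres_mres M le_top (hle.trans inf_le_left), ← hk, mres_pow_smul,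
      ← mres_mres M inf_le_left hle, ht, map_zero, smul_zero]
  obtain ⟨n, hn⟩ := exists_pow_smul_eq_zero M (g * r) t₀ h0
  refine ⟨n, eq_zero_of_pow_smul (f := gs g) (basicOpen_gs g).ge (n := n + k) ?_⟩
  have := congrArg (mres M (le_top : bo g ≤ ⊤)) hn
  rw [map_zero, mres_pow_smul, ← hk, ← mul_smul] at this
  rw [← mul_smul, ← this]
  congr 1
  simp only [rs, gs, map_mul]
  ring

lemma locInj_top (M : (Spec R).Modules) [M.IsQuasicoherent] (f : Γ(Spec R, ⊤)) : LocInj M f ⊤ := by
  obtain ⟨r, rfl⟩ : ∃ r, gs r = f := ⟨(Scheme.ΓSpecIso R).hom f, Iso.hom_inv_id_apply _ _⟩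
  have := locInj_basicOpen M 1 r
  rwa [bo_one] at this

lemma locSurj_top (M : (Spec R).Modules) [M.IsQuasicoherent] (f : Γ(Spec R, ⊤)) : LocSurj M f ⊤ := by
  obtain ⟨r, rfl⟩ : ∃ r, gs r = f := ⟨(Scheme.ΓSpecIso R).hom f, Iso.hom_inv_id_apply _ _⟩
  intro s
  have hle : bo r ≤ ⊤ ⊓ (Spec R).basicOpen (gs r) := by rw [basicOpen_gs, top_inf_eq]
  have hge : ⊤ ⊓ (Spec R).basicOpen (gs r) ≤ bo r := by rw [basicOpen_gs, top_inf_eq]
  obtain ⟨n, t, hn⟩ := exists_pow_smul_eq_res M r (mres M hle s)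
  refine ⟨n, t, ?_⟩
  rw [← mres_mres M (le_top : bo r ≤ ⊤) hge, ← hn, mres_pow_smul, mres_mres, mres_id]

end basic

section qcqs

variable {X : Scheme.{u}} (M : X.Modules) [Coh.IsQCoh M] (f : Γ(X, ⊤))

lemma locInj_affine {U : X.Opens} (hU : IsAffineOpen U) : LocInj M f U := by
  have h := (locInj_top (M.restrict hU.fromSpec) (hU.fromSpec.appTop f)).of_restrict
  rwa [Scheme.Hom.image_top_eq_opensRange, hU.opensRange_fromSpec] at h

lemma locSurj_affine {U : X.Opens} (hU : IsAffineOpen U) : LocSurj M f U := by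
  have h := (locSurj_top (M.restrict hU.fromSpec) (hU.fromSpec.appTop f)).of_restrict
  rwa [Scheme.Hom.image_top_eq_opensRange, hU.opensRange_fromSpec] at h

omit [Coh.IsQCoh M] in
lemma exists_finite_affine_iSup {U : X.Opens} (hU : IsCompact (U : Set X)) :
    ∃ (s : Set X.affineOpens) (_ : s.Finite), U = ⨆ i : s, (i.1 : X.Opens) := by
  obtain ⟨s, hs, e⟩ := isCompact_iff_finite_and_eq_biUnion_affineOpens.mp hU
  exact ⟨s, hs, Opens.ext (by rw [e]; simp [Set.iUnion_subtype])⟩

lemma locInj_of_isCompact {U : X.Opens} (hU : IsCompact (U : Set X)) : LocInj M f U := by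
  obtain ⟨s, hs, e⟩ := exists_finite_affine_iSup hU
  haveI := hs.to_subtype
  exact LocInj.of_iSup _ e fun i => locInj_affine M f i.1.2

lemma locSurj_of_isCompact [QuasiSeparatedSpace X] {U : X.Opens} (hU : IsCompact (U : Set X)) :
    LocSurj M f U := by
  obtain ⟨s, hs, e⟩ := exists_finite_affine_iSup hU
  haveI := hs.to_subtype
  exact LocSurj.of_iSup _ e (fun i => locSurj_affine M f i.1.2) fun i j =>
    locInj_of_isCompact M f
      (i.1.2.isCompact.inter_of_isOpen j.1.2.isCompact i.1.1.isOpen j.1.1.isOpen)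

end qcqs

section extension

variable {S : ShortComplex (Spec R).Modules}

/-- Extensions of quasi-coherent modules on `Spec R` are quasi-coherent. -/
lemma isQuasicoherent_extension_spec (hS : S.ShortExact) [S.X₁.IsQuasicoherent]
    [S.X₃.IsQuasicoherent] : S.X₂.IsQuasicoherent := by
  haveI := hS.mono_f
  have hinj (g r : R) : LocInj S.X₂ (gs r) (bo g) := by
    intro t ht
    obtain ⟨n, hn⟩ := locInj_basicOpen S.X₃ g r (S.g.app _ t) (by rw [← app_mres, ht, map_zero])
    rw [← app_pow_smul] at hn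
    obtain ⟨a, ha⟩ := sections_exact hS.exact _ _ hn
    have ha0 : mres S.X₁ inf_le_left a = 0 := app_injective S.f _ (by
      rw [app_mres, ha, mres_pow_smul, ht, smul_zero, map_zero])
    obtain ⟨m, hm⟩ := locInj_basicOpen S.X₁ g r a ha0
    refine ⟨m + n, ?_⟩
    rw [pow_add, mul_smul, ← ha, ← app_pow_smul, hm, map_zero]
  have hsurj (r : R) : LocSurj S.X₂ (gs r) ⊤ := by
    intro s
    obtain ⟨n, c, hc⟩ := locSurj_top S.X₃ (gs r) (S.g.app _ s)
    have hlift (x : PrimeSpectrum R) : ∃ (g : R) (b : Γ(S.X₂, bo g)),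
        x ∈ bo g ∧ S.g.app _ b = mres S.X₃ le_top c := by
      haveI := hS.epi_g
      obtain ⟨V, hV, hxV, b, hb⟩ := (epi_iff_locally_surjective S.g).mp inferInstance ⊤ c x trivial
      obtain ⟨_, ⟨g, rfl⟩, hxg, hgV⟩ :=
        Opens.isBasis_iff_nbhd.mp isBasis_bo hxV
      exact ⟨g, mres _ hgV b, hxg, by rw [app_mres, hb]; exact mres_mres S.X₃ hV hgV c⟩
    choose g b hxg hb using hlift
    obtain ⟨T, hT⟩ := isCompact_univ.elim_finite_subcover
      (fun x => ((bo (g x) : (Spec R).Opens) : Set (Spec R)))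
      (fun x => (bo (g x)).isOpen) (fun x _ => Set.mem_iUnion.mpr ⟨x, hxg x⟩)
    refine exists_extend_of_iSup (fun x : T => bo (g x.1)) ?_ s ?_ ?_
    · refine (top_le_iff.mp fun x _ => ?_).symm
      obtain ⟨y, hy, hxy⟩ := Set.mem_iUnion₂.mp (hT (Set.mem_univ x))
      exact Opens.mem_iSup.mpr ⟨⟨y, hy⟩, hxy⟩
    · intro ⟨x, hx⟩
      let V : (Spec R).Opens := bo (g x)
      let W : (Spec R).Opens := V ⊓ (Spec R).basicOpen (gs r)
      have hW : W ≤ ⊤ ⊓ (Spec R).basicOpen (gs r) := inf_le_inf_right _ le_top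
      obtain ⟨a, ha⟩ := sections_exact hS.exact W
        (rs W (gs r) ^ n • mres S.X₂ hW s - mres S.X₂ (inf_le_left : W ≤ V) (b x)) (by
          rw [map_sub, app_pow_smul, app_mres, app_mres, hb, ← mres_pow_smul, ← hc, mres_mres,
            mres_mres, sub_self])
      obtain ⟨m, a', ha'⟩ := (locSurj_affine S.X₁ (gs r) (IsAffineOpen.Spec_basicOpen (g x))) a
      refine ⟨m + n, rs V (gs r) ^ m • b x + S.f.app V a', ?_⟩
      rw [map_add, mres_pow_smul, ← app_mres, ha', app_pow_smul, ha, smul_sub, pow_add, mul_smul]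
      abel
    · intro i j
      rw [← bo_mul]
      exact hinj _ r
  rw [isQuasicoherent_iff_isIso_fromTildeΓ, isIso_fromTildeΓ_iff_isLocalizing]
  intro r
  have hle : bo r ≤ ⊤ ⊓ (Spec R).basicOpen (gs r) := by
    rw [basicOpen_gs, top_inf_eq]
  have hge : ⊤ ⊓ (Spec R).basicOpen (gs r) ≤ bo r := by
    rw [basicOpen_gs, top_inf_eq]
  refine IsLocalizedModule.Away.mk_of_addCommGroup ?_ ?_ ?_
  · exact Scheme.Modules.isUnit_algebraMap_end_of_le_basicOpen r le_rfl
  · intro x
    have key (x : Γ(S.X₂, bo r)) : ∃ (n : ℕ) (t : Γ(S.X₂, ⊤)),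
        r ^ n • x = mres S.X₂ le_top t := by
      obtain ⟨n, t, ht⟩ := hsurj r (mres S.X₂ hge x)
      refine ⟨n, t, ?_⟩
      rw [← mres_mres S.X₂ inf_le_left hle, ht, mres_pow_smul, mres_mres, mres_id, pow_smul_eq]
    exact key x
  · suffices key : ∀ t : Γ(S.X₂, ⊤), mres S.X₂ (le_top : bo r ≤ ⊤) t = 0 → ∃ n : ℕ, r ^ n • t = 0 by
      intro t ht; exact key t ht
    intro t ht
    have h1 := hinj 1 r
    rw [bo_one] at h1
    obtain ⟨n, hn⟩ := h1 t (by rw [← mres_mres S.X₂ le_top hge, ht, map_zero])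
    exact ⟨n, by rw [pow_smul_eq]; exact hn⟩

/-- Global sections on `Spec R` are exact on the right when the kernel is quasi-coherent. -/
lemma surjective_app_top {M N : (Spec R).Modules} (φ : M ⟶ N) [Epi φ] (hK : (kernel φ).IsQuasicoherent) :
    Function.Surjective (φ.app ⊤) := by
  intro c
  let σ : SheafOfModules.sections N :=
    PresheafOfModules.sectionsMk (M := N.val)
      (fun U => N.presheaf.map (homOfLE (le_top : U.unop ≤ ⊤)).op c)
      (fun U V i => (ConcreteCategory.congr_hom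
        (N.presheaf.map_comp (homOfLE (le_top : U.unop ≤ ⊤)).op i) c).symm)
  let γ : Coh.structureModule (Spec R) ⟶ N := N.unitHomEquiv.symm σ
  have hγ : γ.app ⊤ (1 : Γ(Spec R, ⊤)) = c := by
    have h1 := congrArg (fun t : SheafOfModules.sections N => t.val (op ⊤))
      (N.unitHomEquiv.apply_symm_apply σ)
    exact h1.trans (mres_id N le_rfl c)
  let P := pullback φ γ
  let k : kernel φ ⟶ P := pullback.lift (kernel.ι φ) 0 (by simp)
  have hk₁ : k ≫ pullback.fst φ γ = kernel.ι φ := pullback.lift_fst _ _ _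
  have hk₂ : k ≫ pullback.snd φ γ = 0 := pullback.lift_snd _ _ _
  haveI : Mono k := by
    have : Mono (k ≫ pullback.fst φ γ) := by
      rw [hk₁]; infer_instance
    exact mono_of_mono k (pullback.fst φ γ)
  haveI : Epi (pullback.snd φ γ) := inferInstance
  let T : ShortComplex (Spec R).Modules := ShortComplex.mk k (pullback.snd φ γ) hk₂
  have hker : IsLimit (KernelFork.ofι k T.zero) :=
    KernelFork.IsLimit.ofι' k T.zero fun {W} g hg =>
      ⟨kernel.lift φ (g ≫ pullback.fst φ γ) (by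
        rw [Category.assoc, pullback.condition, ← Category.assoc, hg, zero_comp]), by
        apply pullback.hom_ext
        · rw [Category.assoc, hk₁, kernel.lift_ι]
        · rw [Category.assoc, hk₂, comp_zero]; exact hg.symm⟩
  have hT : T.ShortExact := ⟨ShortComplex.exact_of_f_is_kernel _ hker⟩
  haveI : P.IsQuasicoherent := by
    haveI : T.X₁.IsQuasicoherent := hK
    haveI hO : (Coh.structureModule (Spec R)).IsQuasicoherent :=
      isQuasicoherent_of_iso (M := tilde (ModuleCat.of R R)) tildeSelf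
    haveI : T.X₃.IsQuasicoherent := hO
    exact isQuasicoherent_extension_spec hT
  haveI : (Coh.structureModule (Spec R)).IsQuasicoherent :=
    isQuasicoherent_of_iso (M := tilde (ModuleCat.of R R)) tildeSelf
  have hsurj : Function.Surjective ((pullback.snd φ γ).app ⊤) := by
    obtain ⟨A, B, ψ, a, b, h⟩ := exists_tilde_map_iso (pullback.snd φ γ)
    haveI : Epi ((tilde.functor R).map ψ) := by
      have : Epi ((tilde.functor R).map ψ ≫ b.hom) := by rw [h]; infer_instance
      exact (epi_comp_iff_of_isIso _ b.hom).mp this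
    haveI : Epi ψ := (tilde.functor R).epi_of_epi_map inferInstance
    have hψ : Function.Surjective ψ := (ModuleCat.epi_iff_surjective ψ).mp inferInstance
    intro y
    obtain ⟨m, hm⟩ := ((ConcreteCategory.isIso_iff_bijective (tilde.toOpen B ⊤)).mp inferInstance).2
      (b.inv.app ⊤ y)
    obtain ⟨a', rfl⟩ := hψ m
    let z : Γ((tilde.functor R).obj A, ⊤) := tilde.toOpen A ⊤ a'
    refine ⟨a.hom.app ⊤ z, ?_⟩
    have h1 : b.hom.app ⊤ (((tilde.functor R).map ψ).app ⊤ z) =
        (pullback.snd φ γ).app ⊤ (a.hom.app ⊤ z) :=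
      ConcreteCategory.congr_hom (congrArg (fun t : (tilde.functor R).obj A ⟶ Coh.structureModule (Spec R) => t.app ⊤) h) z
    have h2 : ((tilde.functor R).map ψ).app ⊤ z = b.inv.app ⊤ y :=
      (ConcreteCategory.congr_hom (tilde.toOpen_map_app ψ ⊤) a').trans hm
    rw [← h1, h2]
    exact ConcreteCategory.congr_hom (congrArg (fun t : Coh.structureModule (Spec R) ⟶ _ => t.app ⊤) b.inv_hom_id) y
  obtain ⟨p, hp⟩ := hsurj (1 : Γ(Spec R, ⊤))
  refine ⟨(pullback.fst φ γ).app ⊤ p, ?_⟩
  rw [← ConcreteCategory.comp_apply, ← Scheme.Modules.Hom.comp_app, pullback.condition,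
    Scheme.Modules.Hom.comp_app, ConcreteCategory.comp_apply, hp]
  exact hγ

end extension

end Groth.Agent.M1
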