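import Mathlib.AlgebraicGeometry.Modules.Tilde
import Mathlib.Algebra.Category.ModuleCat.Sheaf.LocallyFree
import Mathlib.AlgebraicGeometry.Restrict
import Groth.Prelude.Def_CohB1
import Groth.Agent.Lib.ModM1.Exact
import Groth.Agent.Lib.ModM1.Affine

/-!
M1: restriction along open immersions is exact; quasi-coherence / finite type / finite presentation
are local; closure of quasi-coherent modules under kernels, cokernels, colimits, extensions.
-/

universe u

open CategoryTheory Limits AlgebraicGeometry Opposite TopologicalSpace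

namespace Groth.Agent.M1

section sections

variable {X : Scheme.{u}} {M N : X.Modules}

/-- The unit section of the structure module. -/
noncomputable def one (U : X.Opens) : Γ(Coh.structureModule X, U) := (1 : Γ(X, U))

lemma mres_one {U V : X.Opens} (h : V ≤ U) : mres (Coh.structureModule X) h (one U) = one V :=
  map_one (X.presheaf.map (homOfLE h).op).hom

/-- The morphism `O ⟶ M` given by a global section. -/
noncomputable def secHom (s : Γ(M, ⊤)) : Coh.structureModule X ⟶ M :=
  M.unitHomEquiv.symm (PresheafOfModules.sectionsMk (M := M.val)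
    (fun U => M.presheaf.map (homOfLE (le_top : U.unop ≤ ⊤)).op s)
    (fun U V i => (ConcreteCategory.congr_hom
      (M.presheaf.map_comp (homOfLE (le_top : U.unop ≤ ⊤)).op i) s).symm))

@[simp] lemma secHom_app_one (s : Γ(M, ⊤)) : (secHom s).app ⊤ (one ⊤) = s :=
  (congrArg (fun t : SheafOfModules.sections M => t.val (op ⊤))
    (M.unitHomEquiv.apply_symm_apply _)).trans (mres_id M le_rfl s)

lemma unit_hom_ext {f g : Coh.structureModule X ⟶ M} (h : f.app ⊤ (one ⊤) = g.app ⊤ (one ⊤)) :
    f = g := by
  apply M.unitHomEquiv.injective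
  apply Subtype.ext
  funext U
  change f.app U.unop (one U.unop) = g.app U.unop (one U.unop)
  rw [← mres_one (le_top : U.unop ≤ ⊤), app_mres, app_mres, h]

lemma secHom_comp (s : Γ(M, ⊤)) (φ : M ⟶ N) : secHom s ≫ φ = secHom (φ.app ⊤ s) :=
  unit_hom_ext ((congrArg (φ.app ⊤) (secHom_app_one s)).trans (secHom_app_one _).symm)

/-- The free module, as an `O_X`-module. -/
noncomputable abbrev fr (I : Type u) : X.Modules := SheafOfModules.free I

/-- The coprojections into a free module. -/
noncomputable def ιF {I : Type u} (i : I) : Coh.structureModule X ⟶ fr I := SheafOfModules.ιFree i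

/-- The morphism from a free module given by global sections. -/
noncomputable def freeHom {I : Type u} (s : I → Γ(M, ⊤)) : fr I ⟶ M :=
  SheafOfModules.freeHomEquiv M |>.symm fun i => M.unitHomEquiv (secHom (s i))

@[reassoc (attr := simp)]
lemma ιF_freeHom {I : Type u} (s : I → Γ(M, ⊤)) (i : I) : ιF i ≫ freeHom s = secHom (s i) :=
  M.unitHomEquiv.injective
    (congrFun (M.freeHomEquiv.apply_symm_apply fun i => M.unitHomEquiv (secHom (s i))) i)

lemma free_hom_ext {I : Type u} {f g : fr I ⟶ M}
    (h : ∀ i : I, (ιF i ≫ f).app ⊤ (one ⊤) = (ιF i ≫ g).app ⊤ (one ⊤)) : f = g :=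
  M.freeHomEquiv.injective (funext fun i => congrArg M.unitHomEquiv (unit_hom_ext (h i)))

/-- The sections of a morphism out of a free module. -/
noncomputable def freeSec {I : Type u} (f : fr I ⟶ M) (i : I) : Γ(M, ⊤) :=
  (ιF i ≫ f).app ⊤ (one ⊤)

lemma freeHom_freeSec {I : Type u} (f : fr I ⟶ M) : freeHom (freeSec f) = f :=
  free_hom_ext fun i => by rw [ιF_freeHom, secHom_app_one]; rfl

lemma freeHom_comp {I : Type u} (s : I → Γ(M, ⊤)) (φ : M ⟶ N) :
    freeHom s ≫ φ = freeHom (fun i => φ.app ⊤ (s i)) :=
  free_hom_ext fun i => by rw [ιF_freeHom_assoc, ιF_freeHom, secHom_comp]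

/-- Generating sections from an epimorphism out of a free module. -/
noncomputable def genOfEpi {I : Type u} (p : fr I ⟶ M) [Epi p] :
    SheafOfModules.GeneratingSections M where
  I := I
  s := SheafOfModules.freeHomEquiv M p
  epi := (M.freeHomEquiv.symm_apply_apply p).symm ▸ (inferInstance : Epi p)

end sections

variable {X Y : Scheme.{u}}

instance restrictFunctor_preservesColimits (j : Y ⟶ X) [IsOpenImmersion j] :
    PreservesColimitsOfSize.{u, u} (Scheme.Modules.restrictFunctor j) :=
  (Scheme.Modules.restrictAdjunction j).leftAdjoint_preservesColimits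

instance restrictFunctor_additive (j : Y ⟶ X) [IsOpenImmersion j] :
    (Scheme.Modules.restrictFunctor j).Additive :=
  have : PreservesFiniteColimits (Scheme.Modules.restrictFunctor j) :=
    PreservesColimits.preservesFiniteColimits _
  have := preservesBinaryBiproducts_of_preservesBinaryCoproducts (Scheme.Modules.restrictFunctor j)
  Functor.additive_of_preservesBinaryBiproducts _

instance restrictFunctor_preservesFiniteColimits (j : Y ⟶ X) [IsOpenImmersion j] :
    PreservesFiniteColimits (Scheme.Modules.restrictFunctor j) :=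
  PreservesColimits.preservesFiniteColimits _

instance restrictFunctor_preservesMono (j : Y ⟶ X) [IsOpenImmersion j] :
    (Scheme.Modules.restrictFunctor j).PreservesMonomorphisms :=
  ⟨fun φ _ => (mono_iff_app _).mpr fun U => app_injective φ (j ''ᵁ U)⟩

instance restrictFunctor_preservesFiniteLimits (j : Y ⟶ X) [IsOpenImmersion j] :
    PreservesFiniteLimits (Scheme.Modules.restrictFunctor j) :=
  let F := Scheme.Modules.restrictFunctor j
  ((F.exact_tfae.out 0 3 rfl rfl).mp fun S hS => by
    obtain ⟨h1, h2⟩ := ((F.preservesFiniteColimits_tfae.out 3 0 rfl rfl).mp inferInstance) S hS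
    haveI := hS.mono_f
    exact { exact := h1, mono_f := inferInstanceAs (Mono (F.map S.f)), epi_g := h2 }).1

/-- Composing restrictions. -/
noncomputable def restrictRestrictIso (M : X.Modules) {Z : Scheme.{u}} (j : Y ⟶ X) (k : Z ⟶ Y)
    [IsOpenImmersion j] [IsOpenImmersion k] (l : Z ⟶ X) [IsOpenImmersion l] (h : k ≫ j = l) :
    (M.restrict j).restrict k ≅ M.restrict l :=
  ((Scheme.Modules.restrictFunctorComp k j).app M).symm ≪≫
    (Scheme.Modules.restrictFunctorCongr h).app M

/-- Restriction to a smaller image: `M|_l` as a restriction of `M|_j`. -/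
noncomputable def restrictLiftIso (M : X.Modules) {Z : Scheme.{u}} (j : Y ⟶ X) (l : Z ⟶ X)
    [IsOpenImmersion j] [IsOpenImmersion l] (h : Set.range l ⊆ Set.range j) :
    (M.restrict j).restrict (IsOpenImmersion.lift j l h) ≅ M.restrict l :=
  restrictRestrictIso M j _ l (IsOpenImmersion.lift_fac j l h)

instance lift_isOpenImmersion {Z : Scheme.{u}} (j : Y ⟶ X) (l : Z ⟶ X)
    [IsOpenImmersion j] [IsOpenImmersion l] (h : Set.range l ⊆ Set.range j) :
    IsOpenImmersion (IsOpenImmersion.lift j l h) := by
  have : IsOpenImmersion (IsOpenImmersion.lift j l h ≫ j) := by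
    rw [IsOpenImmersion.lift_fac]; infer_instance
  exact IsOpenImmersion.of_comp _ j

/-- The unit of `M.restrict j`. -/
noncomputable def unitRestrictIso (j : Y ⟶ X) [IsOpenImmersion j] :
    SheafOfModules.unit Y.ringCatSheaf ≅
      (Scheme.Modules.restrictFunctor j).obj (SheafOfModules.unit X.ringCatSheaf) :=
  (Scheme.Modules.restrictUnitIso j).symm

set_option backward.isDefEq.respectTransparency false in
/-- Restriction of generating sections. -/
noncomputable def genRestrict {M : X.Modules} (σ : SheafOfModules.GeneratingSections M)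
    (j : Y ⟶ X) [IsOpenImmersion j] : SheafOfModules.GeneratingSections (M.restrict j) :=
  have : PreservesColimitsOfSize.{u, u} (Scheme.Modules.restrictFunctor j) := inferInstance
  σ.map (Scheme.Modules.restrictFunctor.{u} j) (unitRestrictIso j)

/-- `M` has a finite presentation, as a condition on a presentation. -/
def FinPres {M : X.Modules} (P : SheafOfModules.Presentation M) : Prop :=
  Finite P.generators.I ∧ Finite P.relations.I

lemma finPres_iff {M : X.Modules} (P : SheafOfModules.Presentation M) :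
    FinPres P ↔ P.IsFinite :=
  ⟨fun h => ⟨⟨h.1⟩, ⟨h.2⟩⟩, fun h => ⟨h.1.1, h.2.1⟩⟩

lemma finPres_presentationRestrict {M : X.Modules} (P : SheafOfModules.Presentation M)
    (j : Y ⟶ X) [IsOpenImmersion j] (h : FinPres P) :
    FinPres (Scheme.Modules.presentationRestrict j P) := h

/-- Transport of a presentation along an isomorphism of `O_X`-modules. -/
noncomputable def presIso {M N : X.Modules} (e : M ≅ N) (P : SheafOfModules.Presentation M) :
    SheafOfModules.Presentation N :=
  @SheafOfModules.Presentation.ofIsIso _ _ _ _ _ _ M N e.hom e.isIso_hom P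

lemma finPres_presIso {M N : X.Modules} (e : M ≅ N) (P : SheafOfModules.Presentation M)
    (h : FinPres P) : FinPres (presIso e P) := h

/-- Transport of generating sections along an epimorphism of `O_X`-modules. -/
noncomputable def genEpi {M N : X.Modules} (σ : SheafOfModules.GeneratingSections M) (p : M ⟶ N)
    [hp : Epi p] : SheafOfModules.GeneratingSections N :=
  @SheafOfModules.GeneratingSections.ofEpi _ _ _ _ _ _ M N σ p hp

/-- `M.over U` seen on the open subscheme. -/
noncomputable def overToRestrictIso (M : X.Modules) (U : X.Opens) :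
    (Scheme.Modules.overEquiv U).functor.obj (SheafOfModules.over M U) ≅ M.restrict U.ι :=
  (Scheme.Modules.overFunctorEquiv U).app M

/-- `M|_U` seen on the slice site. -/
noncomputable def restrictToOverIso (M : X.Modules) (U : X.Opens) :
    (Scheme.Modules.overEquiv U).inverse.obj (M.restrict U.ι) ≅ SheafOfModules.over M U :=
  (Scheme.Modules.overEquiv U).inverse.mapIso (overToRestrictIso M U).symm ≪≫
    ((Scheme.Modules.overEquiv U).unitIso.app _).symm

instance overEquiv_functor_preservesColimits (U : X.Opens) :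
    PreservesColimitsOfSize.{u, u} (Scheme.Modules.overEquiv U).functor :=
  (Scheme.Modules.overEquiv U).toAdjunction.leftAdjoint_preservesColimits

instance overEquiv_inverse_preservesColimits (U : X.Opens) :
    PreservesColimitsOfSize.{u, u} (Scheme.Modules.overEquiv U).inverse :=
  (Scheme.Modules.overEquiv U).symm.toAdjunction.leftAdjoint_preservesColimits

noncomputable def overUnitIso (U : X.Opens) :
    SheafOfModules.unit (U : Scheme.{u}).ringCatSheaf ≅
      (Scheme.Modules.overEquiv U).functor.obj (SheafOfModules.unit (X.ringCatSheaf.over U)) :=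
  Iso.refl _

noncomputable def overInverseUnitIso (U : X.Opens) :
    SheafOfModules.unit (X.ringCatSheaf.over U) ≅
      (Scheme.Modules.overEquiv U).inverse.obj (SheafOfModules.unit (U : Scheme.{u}).ringCatSheaf) :=
  (Scheme.Modules.overEquiv U).unitIso.app _ ≪≫
    (Scheme.Modules.overEquiv U).inverse.mapIso (overUnitIso U).symm

set_option backward.isDefEq.respectTransparency false in
noncomputable def presOfRestrict {M : X.Modules} {U : X.Opens}
    (P : SheafOfModules.Presentation (M.restrict U.ι)) :
    SheafOfModules.Presentation (SheafOfModules.over M U) :=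
  SheafOfModules.Presentation.ofIsIso (restrictToOverIso M U).hom
    (P.map (Scheme.Modules.overEquiv U).inverse (overInverseUnitIso U))

set_option backward.isDefEq.respectTransparency false in
noncomputable def presToRestrict {M : X.Modules} {U : X.Opens}
    (P : SheafOfModules.Presentation (SheafOfModules.over M U)) :
    SheafOfModules.Presentation (M.restrict U.ι) :=
  presIso (overToRestrictIso M U)
    (P.map (Scheme.Modules.overEquiv U).functor (overUnitIso U))

set_option backward.isDefEq.respectTransparency false in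
noncomputable def genOfRestrict {M : X.Modules} {U : X.Opens}
    (σ : SheafOfModules.GeneratingSections (M.restrict U.ι)) :
    SheafOfModules.GeneratingSections (SheafOfModules.over M U) :=
  (σ.map (Scheme.Modules.overEquiv U).inverse (overInverseUnitIso U)).ofEpi
    (restrictToOverIso M U).hom

set_option backward.isDefEq.respectTransparency false in
noncomputable def genToRestrict {M : X.Modules} {U : X.Opens}
    (σ : SheafOfModules.GeneratingSections (SheafOfModules.over M U)) :
    SheafOfModules.GeneratingSections (M.restrict U.ι) :=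
  genEpi (σ.map (Scheme.Modules.overEquiv U).functor (overUnitIso U))
    (overToRestrictIso M U).hom

lemma coversTop_of_forall_mem {ι : Type*} (U : ι → X.Opens) (h : ∀ x : X, ∃ i, x ∈ U i) :
    (Opens.grothendieckTopology X).CoversTop U :=
  (Opens.coversTop_iff _ U).mpr (top_le_iff.mp fun x _ => Opens.mem_iSup.mpr (h x))

lemma exists_mem_of_coversTop {ι : Type*} {U : ι → X.Opens}
    (h : (Opens.grothendieckTopology X).CoversTop U) (x : X) : ∃ i, x ∈ U i :=
  Opens.mem_iSup.mp (((Opens.coversTop_iff _ U).mp h).ge (Opens.mem_top x))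

/-- Quasi-coherence is: presentations locally. -/
theorem isQCoh_iff_presentation (M : X.Modules) :
    Coh.IsQCoh M ↔
      ∀ x : X, ∃ U : X.Opens, x ∈ U ∧ Nonempty (SheafOfModules.Presentation (M.restrict U.ι)) := by
  constructor
  · rintro ⟨⟨q⟩⟩ x
    obtain ⟨i, hi⟩ := exists_mem_of_coversTop q.coversTop x
    exact ⟨q.X i, hi, ⟨presToRestrict (q.presentation i)⟩⟩
  · intro h
    choose U hU P using h
    let q : SheafOfModules.QuasicoherentData.{u} (R := X.ringCatSheaf) M :=
      { I := ↥X, X := U, coversTop := coversTop_of_forall_mem U fun x => ⟨x, hU x⟩,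
        presentation := fun x => presOfRestrict (P x).some }
    exact q.isQuasicoherent

/-- Finite presentation is: finite presentations locally. -/
theorem isFP_iff_presentation (M : X.Modules) :
    CohB1.IsFP M ↔ ∀ x : X, ∃ U : X.Opens, x ∈ U ∧
      ∃ P : SheafOfModules.Presentation (M.restrict U.ι), FinPres P := by
  constructor
  · intro h x
    obtain ⟨q, hq⟩ := h.exists_quasicoherentData
    obtain ⟨i, hi⟩ := exists_mem_of_coversTop q.coversTop x
    exact ⟨q.X i, hi, presToRestrict (q.presentation i),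
      ⟨(hq.isFinite_presentation i).1.1, (hq.isFinite_presentation i).2.1⟩⟩
  · intro h
    choose U hU P hP using h
    let q : SheafOfModules.QuasicoherentData.{u} (R := X.ringCatSheaf) M :=
      { I := ↥X, X := U, coversTop := coversTop_of_forall_mem U fun x => ⟨x, hU x⟩,
        presentation := fun x => presOfRestrict (P x) }
    have hq : SheafOfModules.QuasicoherentData.IsFinitePresentation (R := X.ringCatSheaf) q := by
      constructor; intro x
      refine ⟨⟨?_⟩, ⟨?_⟩⟩
      · exact (hP x).1
      · exact (hP x).2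
    exact SheafOfModules.IsFinitePresentation.mk (R := X.ringCatSheaf) (M := M) ⟨q, hq⟩

/-- Finite type is: finitely many generators locally. -/
theorem isFT_iff_generators (M : X.Modules) :
    CohB1.IsFT M ↔ ∀ x : X, ∃ U : X.Opens, x ∈ U ∧
      ∃ σ : SheafOfModules.GeneratingSections (M.restrict U.ι), Finite σ.I := by
  constructor
  · intro h x
    obtain ⟨q, hq⟩ := h.exists_localGeneratorsData
    obtain ⟨i, hi⟩ := exists_mem_of_coversTop q.coversTop x
    exact ⟨q.X i, hi, genToRestrict (q.generators i), (hq.isFiniteType i).finite⟩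
  · intro h
    choose U hU σ hσ using h
    let q : SheafOfModules.LocalGeneratorsData.{u} (R := X.ringCatSheaf) M :=
      { I := ↥X, X := U, coversTop := coversTop_of_forall_mem U fun x => ⟨x, hU x⟩,
        generators := fun x => genOfRestrict (σ x) }
    have hq : SheafOfModules.LocalGeneratorsData.IsFiniteType (R := X.ringCatSheaf) q := by
      constructor; intro x; constructor; exact hσ x
    exact SheafOfModules.IsFiniteType.mk (R := X.ringCatSheaf) (M := M) ⟨q, hq⟩

theorem isQCoh_restrict {M : X.Modules} (h : Coh.IsQCoh M) (j : Y ⟶ X) [IsOpenImmersion j] :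
    Coh.IsQCoh (M.restrict j) := by
  haveI := h
  infer_instance

theorem isFT_restrict {M : X.Modules} (h : CohB1.IsFT M) (j : Y ⟶ X) [IsOpenImmersion j] :
    CohB1.IsFT (M.restrict j) := by
  rw [isFT_iff_generators] at h ⊢
  intro y
  obtain ⟨U, hU, σ, hσ⟩ := h (j y)
  have hr : Set.range ((j ⁻¹ᵁ U).ι ≫ j) ⊆ Set.range U.ι := by
    rintro _ ⟨z, rfl⟩
    rw [Scheme.Opens.range_ι]
    exact z.2
  exact ⟨j ⁻¹ᵁ U, hU, genEpi (genRestrict σ (IsOpenImmersion.lift U.ι _ hr))
    ((restrictLiftIso M U.ι _ hr).hom ≫ (restrictRestrictIso M j (j ⁻¹ᵁ U).ι _ rfl).inv), hσ⟩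

theorem isFP_restrict {M : X.Modules} (h : CohB1.IsFP M) (j : Y ⟶ X) [IsOpenImmersion j] :
    CohB1.IsFP (M.restrict j) := by
  rw [isFP_iff_presentation] at h ⊢
  intro y
  obtain ⟨U, hU, P, hP⟩ := h (j y)
  have hr : Set.range ((j ⁻¹ᵁ U).ι ≫ j) ⊆ Set.range U.ι := by
    rintro _ ⟨z, rfl⟩
    rw [Scheme.Opens.range_ι]
    exact z.2
  let e := restrictLiftIso M U.ι _ hr ≪≫ (restrictRestrictIso M j (j ⁻¹ᵁ U).ι _ rfl).symm
  exact ⟨j ⁻¹ᵁ U, hU, presIso e (Scheme.Modules.presentationRestrict (IsOpenImmersion.lift U.ι _ hr) P),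
    finPres_presIso _ _ (finPres_presentationRestrict P _ hP)⟩

section cover

variable {ι : Type*} {Z : ι → Scheme.{u}} (j : ∀ i, Z i ⟶ X) [∀ i, IsOpenImmersion (j i)]
  (hj : ∀ x : X, ∃ i, x ∈ Set.range (j i))

lemma range_image_ι_subset {Y : Scheme.{u}} (j : Y ⟶ X) [IsOpenImmersion j] (V : Y.Opens) :
    Set.range (j ''ᵁ V).ι ⊆ Set.range (V.ι ≫ j) := by
  rintro _ ⟨z, rfl⟩
  obtain ⟨v, hv, e⟩ := z.2
  exact ⟨⟨v, hv⟩, e⟩

/-- From `(M|_j)|_V` to `M|_(image of V)`. -/
noncomputable def restrictImageIso (M : X.Modules) {Y : Scheme.{u}} (j : Y ⟶ X) [IsOpenImmersion j]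
    (V : Y.Opens) :
    ((M.restrict j).restrict V.ι).restrict
      (IsOpenImmersion.lift (V.ι ≫ j) (j ''ᵁ V).ι (range_image_ι_subset j V)) ≅
      M.restrict (j ''ᵁ V).ι :=
  (Scheme.Modules.restrictFunctor _).mapIso (restrictRestrictIso M j V.ι _ rfl) ≪≫
    restrictLiftIso M _ _ (range_image_ι_subset j V)

include hj in
theorem isQCoh_of_openImmersion_cover {M : X.Modules} (h : ∀ i, Coh.IsQCoh (M.restrict (j i))) :
    Coh.IsQCoh M := by
  rw [isQCoh_iff_presentation]
  intro x
  obtain ⟨i, y, rfl⟩ := hj x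
  obtain ⟨V, hV, ⟨P⟩⟩ := (isQCoh_iff_presentation _).mp (h i) y
  exact ⟨j i ''ᵁ V, ⟨y, hV, rfl⟩, ⟨presIso (restrictImageIso M (j i) V)
    (Scheme.Modules.presentationRestrict _ P)⟩⟩

include hj in
theorem isFP_of_openImmersion_cover {M : X.Modules} (h : ∀ i, CohB1.IsFP (M.restrict (j i))) :
    CohB1.IsFP M := by
  rw [isFP_iff_presentation]
  intro x
  obtain ⟨i, y, rfl⟩ := hj x
  obtain ⟨V, hV, P, hP⟩ := (isFP_iff_presentation _).mp (h i) y
  exact ⟨j i ''ᵁ V, ⟨y, hV, rfl⟩, presIso (restrictImageIso M (j i) V)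
    (Scheme.Modules.presentationRestrict _ P), finPres_presIso _ _ (finPres_presentationRestrict P _ hP)⟩

include hj in
theorem isFT_of_openImmersion_cover {M : X.Modules} (h : ∀ i, CohB1.IsFT (M.restrict (j i))) :
    CohB1.IsFT M := by
  rw [isFT_iff_generators]
  intro x
  obtain ⟨i, y, rfl⟩ := hj x
  obtain ⟨V, hV, σ, hσ⟩ := (isFT_iff_generators _).mp (h i) y
  exact ⟨j i ''ᵁ V, ⟨y, hV, rfl⟩, genEpi (genRestrict σ _) (restrictImageIso M (j i) V).hom, hσ⟩

end cover

theorem isQCoh_of_isIso {M N : X.Modules} (e : M ≅ N) (h : Coh.IsQCoh M) : Coh.IsQCoh N :=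
  (SheafOfModules.isQuasicoherent X.ringCatSheaf).prop_of_iso e h

theorem isFP_of_isIso {M N : X.Modules} (e : M ≅ N) (h : CohB1.IsFP M) : CohB1.IsFP N :=
  (SheafOfModules.isFinitePresentation X.ringCatSheaf).prop_of_iso e h

theorem isFT_of_epi {M N : X.Modules} (p : M ⟶ N) [Epi p] (h : CohB1.IsFT M) : CohB1.IsFT N := by
  rw [isFT_iff_generators] at h ⊢
  intro x
  obtain ⟨U, hU, σ, hσ⟩ := h x
  exact ⟨U, hU, genEpi σ ((Scheme.Modules.restrictFunctor U.ι).map p), hσ⟩

theorem isFT_of_isIso {M N : X.Modules} (e : M ≅ N) (h : CohB1.IsFT M) : CohB1.IsFT N :=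
  isFT_of_epi e.hom h

set_option backward.isDefEq.respectTransparency false in
theorem isFP_isQCoh {M : X.Modules} (h : CohB1.IsFP M) : Coh.IsQCoh M := by
  haveI := h; infer_instance

set_option backward.isDefEq.respectTransparency false in
theorem isFP_isFT {M : X.Modules} (h : CohB1.IsFP M) : CohB1.IsFT M := by
  haveI := h; infer_instance

/-- Quasi-coherence tested on an affine open. -/
theorem isQCoh_fromSpec {M : X.Modules} (h : Coh.IsQCoh M) {U : X.Opens} (hU : IsAffineOpen U) :
    Coh.IsQCoh (M.restrict hU.fromSpec) := isQCoh_restrict h _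

theorem exists_mem_range_fromSpec (x : X) :
    ∃ U : {U : X.Opens // IsAffineOpen U}, x ∈ Set.range U.2.fromSpec := by
  obtain ⟨U, hU, hxU, -⟩ := exists_isAffineOpen_mem_and_subset (x := x) (U := ⊤) trivial
  exact ⟨⟨U, hU⟩, by rwa [IsAffineOpen.range_fromSpec]⟩

theorem isQCoh_of_fromSpec {M : X.Modules}
    (h : ∀ (U : X.Opens) (hU : IsAffineOpen U), Coh.IsQCoh (M.restrict hU.fromSpec)) : Coh.IsQCoh M :=
  isQCoh_of_openImmersion_cover (fun U : {U : X.Opens // IsAffineOpen U} => U.2.fromSpec)
    exists_mem_range_fromSpec fun U => h U.1 U.2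

theorem isFT_of_fromSpec {M : X.Modules}
    (h : ∀ (U : X.Opens) (hU : IsAffineOpen U), CohB1.IsFT (M.restrict hU.fromSpec)) : CohB1.IsFT M :=
  isFT_of_openImmersion_cover (fun U : {U : X.Opens // IsAffineOpen U} => U.2.fromSpec)
    exists_mem_range_fromSpec fun U => h U.1 U.2

theorem isFP_of_fromSpec {M : X.Modules}
    (h : ∀ (U : X.Opens) (hU : IsAffineOpen U), CohB1.IsFP (M.restrict hU.fromSpec)) : CohB1.IsFP M :=
  isFP_of_openImmersion_cover (fun U : {U : X.Opens // IsAffineOpen U} => U.2.fromSpec)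
    exists_mem_range_fromSpec fun U => h U.1 U.2

theorem isQCoh_structureModule (X : Scheme.{u}) : Coh.IsQCoh (Coh.structureModule X) := by
  refine isQCoh_of_fromSpec fun U hU => ?_
  have h0 : Coh.IsQCoh (Coh.structureModule (Spec Γ(X, U))) :=
    inferInstanceAs (Coh.IsQCoh (tilde (ModuleCat.of Γ(X, U) Γ(X, U))))
  exact isQCoh_of_isIso (Scheme.Modules.restrictUnitIso _).symm h0

theorem isQCoh_kernel {M N : X.Modules} (hM : Coh.IsQCoh M) (hN : Coh.IsQCoh N) (φ : M ⟶ N) :
    Coh.IsQCoh (kernel φ) :=
  isQCoh_of_fromSpec fun U hU => by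
    haveI := isQCoh_fromSpec hM hU
    haveI := isQCoh_fromSpec hN hU
    exact isQCoh_of_isIso (PreservesKernel.iso _ φ).symm (isQuasicoherent_kernel_spec _)

theorem isQCoh_cokernel {M N : X.Modules} (hM : Coh.IsQCoh M) (hN : Coh.IsQCoh N) (φ : M ⟶ N) :
    Coh.IsQCoh (cokernel φ) :=
  isQCoh_of_fromSpec fun U hU => by
    haveI := isQCoh_fromSpec hM hU
    haveI := isQCoh_fromSpec hN hU
    exact isQCoh_of_isIso (PreservesCokernel.iso _ φ).symm (isQuasicoherent_cokernel_spec _)

theorem isQCoh_of_isColimit {K : Type u} [SmallCategory K] {F : K ⥤ X.Modules}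
    (h : ∀ k, Coh.IsQCoh (F.obj k)) {c : Cocone F} (hc : IsColimit c) : Coh.IsQCoh c.pt :=
  isQCoh_of_fromSpec fun U hU => by
    haveI (k : K) : Coh.IsQCoh ((F ⋙ Scheme.Modules.restrictFunctor hU.fromSpec).obj k) :=
      isQCoh_fromSpec (h k) hU
    exact isQuasicoherent_colimit_spec (F ⋙ Scheme.Modules.restrictFunctor hU.fromSpec)
      (isColimitOfPreserves _ hc)

theorem isQCoh_of_shortExact {S : ShortComplex X.Modules} (hS : S.ShortExact)
    (h₁ : Coh.IsQCoh S.X₁) (h₃ : Coh.IsQCoh S.X₃) : Coh.IsQCoh S.X₂ :=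
  isQCoh_of_fromSpec fun U hU => by
    haveI : Coh.IsQCoh
        (S.map (Scheme.Modules.restrictFunctor hU.fromSpec)).X₁ := isQCoh_fromSpec h₁ hU
    haveI : Coh.IsQCoh
        (S.map (Scheme.Modules.restrictFunctor hU.fromSpec)).X₃ := isQCoh_fromSpec h₃ hU
    exact isQuasicoherent_extension_spec (hS.map_of_exact (Scheme.Modules.restrictFunctor hU.fromSpec))

end Groth.Agent.M1
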