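import Mathlib.AlgebraicGeometry.Modules.Tilde
import Mathlib.AlgebraicGeometry.Noetherian
import Mathlib.RingTheory.Noetherian.Basic
import Mathlib.RingTheory.Finiteness.Cardinality
import Mathlib.Algebra.Module.FinitePresentation
import Groth.Prelude.Def_CohB1
import Groth.Agent.Lib.ModM1.Local

/-!
M1: finite type / finite presentation on affines; coherent modules on locally Noetherian schemes; support.
-/

universe u

open CategoryTheory Limits AlgebraicGeometry Opposite TopologicalSpace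

namespace Groth.Agent.M1

variable {X : Scheme.{u}}

lemma stalkAb_map_zero {M N : X.Modules} (x : X) (a : (stalkAb x).obj M) :
    (stalkAb x).map (0 : M ⟶ N) a = 0 := by
  rw [Functor.map_zero]; rfl

lemma comp_app_apply {M N P : X.Modules} (φ : M ⟶ N) (ψ : N ⟶ P) (U : X.Opens) (s : Γ(M, U)) :
    (φ ≫ ψ).app U s = ψ.app U (φ.app U s) := rfl

/-- A morphism vanishing on the members of an open cover is zero. -/
lemma hom_eq_zero_of_cover {M N : X.Modules} (φ : M ⟶ N) {ι : Type*} (U : ι → X.Opens)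
    (hU : ∀ x : X, ∃ i, x ∈ U i) (h : ∀ i, (Scheme.Modules.restrictFunctor (U i).ι).map φ = 0) :
    φ = 0 := by
  ext V s
  change φ.app V s = 0
  refine modules_eq_of_locally_eq N V (fun i => (U i).ι ''ᵁ ((U i).ι ⁻¹ᵁ V))
    (fun i => Scheme.Hom.image_preimage_le _ _) (fun x hx => ?_) _ _ fun i => ?_
  · obtain ⟨i, hi⟩ := hU x
    exact Opens.mem_iSup.mpr ⟨i, ⟨x, hi⟩, hx, rfl⟩
  · rw [map_zero, ← app_mres]
    exact ConcreteCategory.congr_hom
      (congrArg (fun t : M.restrict (U i).ι ⟶ N.restrict (U i).ι => t.app ((U i).ι ⁻¹ᵁ V)) (h i)) _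

/-- A finitely generated module is of finite type. -/
theorem isFT_of_gen {M : X.Modules} (σ : SheafOfModules.GeneratingSections M) (h : Finite σ.I) :
    CohB1.IsFT M :=
  (isFT_iff_generators M).mpr fun _ => ⟨⊤, trivial, genRestrict σ _, h⟩

theorem isFT_of_epi_fr {M : X.Modules} {I : Type u} [Finite I] (p : fr I ⟶ M) [Epi p] :
    CohB1.IsFT M :=
  isFT_of_gen (genOfEpi p) ‹_›

theorem isFT_fr (X : Scheme.{u}) (I : Type u) [Finite I] : CohB1.IsFT (fr I : X.Modules) :=
  isFT_of_epi_fr (𝟙 (fr I))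

theorem isQCoh_fr (X : Scheme.{u}) (I : Type u) : Coh.IsQCoh (fr I : X.Modules) :=
  isQCoh_of_isColimit (F := Discrete.functor fun _ : I => Coh.structureModule X)
    (fun _ => isQCoh_structureModule X) (SheafOfModules.isColimitFreeCofan (R := X.ringCatSheaf) I)

theorem isQCoh_isZero {M : X.Modules} (h : IsZero M) : Coh.IsQCoh M :=
  isQCoh_of_isIso ((isZero_kernel_of_mono (𝟙 (Coh.structureModule X))).iso h)
    (isQCoh_kernel (isQCoh_structureModule X) (isQCoh_structureModule X) _)

section local_lift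

variable {Y : Scheme.{u}}

set_option backward.isDefEq.respectTransparency false in
/-- Restriction of a free module is free. -/
noncomputable def frRestrictIso (j : Y ⟶ X) [IsOpenImmersion j] (I : Type u) :
    (fr I : Y.Modules) ≅ (Scheme.Modules.restrictFunctor j).obj (fr I) :=
  have : PreservesColimitsOfSize.{u, u} (Scheme.Modules.restrictFunctor j) := inferInstance
  SheafOfModules.mapFreeIso (Scheme.Modules.restrictFunctor.{u} j) I (unitRestrictIso j)

set_option backward.isDefEq.respectTransparency false in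
lemma ιF_frRestrictIso (j : Y ⟶ X) [IsOpenImmersion j] {I : Type u} (i : I) :
    ιF i ≫ (frRestrictIso j I).hom =
      (Scheme.Modules.restrictUnitIso j).inv ≫ (Scheme.Modules.restrictFunctor j).map (ιF i) :=
  have : PreservesColimitsOfSize.{u, u} (Scheme.Modules.restrictFunctor j) := inferInstance
  SheafOfModules.ιFree_mapFreeIso_hom (Scheme.Modules.restrictFunctor.{u} j) I (unitRestrictIso j) i

lemma restrictUnitIso_inv_one (j : Y ⟶ X) [IsOpenImmersion j] :
    ((Scheme.Modules.restrictUnitIso j).inv.app ⊤ (one ⊤) : Γ(Coh.structureModule X, j ''ᵁ ⊤)) =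
      one (j ''ᵁ ⊤) :=
  map_one (j.appIso ⊤).inv.hom

/-- A morphism out of a restricted free module, from sections. -/
lemma frRestrictIso_hom_comp_sec (j : Y ⟶ X) [IsOpenImmersion j] {I : Type u} {M : X.Modules}
    (q : fr I ⟶ M) (i : I) :
    (freeSec ((frRestrictIso j I).hom ≫ (Scheme.Modules.restrictFunctor j).map q) i :
        Γ(M, j ''ᵁ ⊤)) = mres M le_top (freeSec q i) := by
  change ((ιF i ≫ (frRestrictIso j I).hom ≫ (Scheme.Modules.restrictFunctor j).map q)).app ⊤ (one ⊤) = _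
  rw [← Category.assoc, ιF_frRestrictIso]
  change q.app (j ''ᵁ ⊤) ((ιF i).app (j ''ᵁ ⊤)
    ((Scheme.Modules.restrictUnitIso j).inv.app ⊤ (one ⊤))) = _
  rw [restrictUnitIso_inv_one, ← mres_one (le_top : j ''ᵁ ⊤ ≤ ⊤), app_mres, app_mres]
  rfl

lemma freeSec_freeHom {I : Type u} {M : X.Modules} (s : I → Γ(M, ⊤)) (i : I) :
    freeSec (freeHom s) i = s i := by
  rw [freeSec, ιF_freeHom, secHom_app_one]

lemma comp_sec {I : Type u} {M N : X.Modules} (q : fr I ⟶ M) (φ : M ⟶ N) (i : I) :
    freeSec (q ≫ φ) i = φ.app ⊤ (freeSec q i) := rfl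

/-- Lifting finitely many sections near a point along an epimorphism. -/
lemma exists_lift_nbhd {F M : X.Modules} (φ : F ⟶ M) [Epi φ] {I : Type*} [Finite I]
    (s : I → Γ(M, ⊤)) (x : X) :
    ∃ V : X.Opens, x ∈ V ∧ ∀ V' ≤ V, ∀ i, ∃ t : Γ(F, V'), φ.app V' t = mres M le_top (s i) := by
  choose V hV hxV t ht using fun i => (epi_iff_locally_surjective φ).mp inferInstance ⊤ (s i) x trivial
  refine ⟨⨅ i, V i, ?_, fun V' hV' i => ⟨mres F (hV'.trans (iInf_le V i)) (t i), ?_⟩⟩
  · change x ∈ ((⨅ i, V i : X.Opens) : Set X)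
    rw [Opens.coe_iInf]; exact Set.mem_iInter.mpr hxV
  · rw [app_mres, ht]; exact mres_mres M (hV i) _ _

/-- A map from a free module, restricted to a small open, lifts along an epimorphism. -/
lemma exists_lift_fr {F M : X.Modules} (φ : F ⟶ M) [Epi φ] {I : Type u} [Finite I] (q : fr I ⟶ M)
    (x : X) : ∃ V : X.Opens, x ∈ V ∧ ∀ V' ≤ V,
      ∃ a : (Scheme.Modules.restrictFunctor V'.ι).obj (fr I) ⟶ F.restrict V'.ι,
        a ≫ (Scheme.Modules.restrictFunctor V'.ι).map φ =
          (Scheme.Modules.restrictFunctor V'.ι).map q := by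
  obtain ⟨V, hxV, hV⟩ := exists_lift_nbhd φ (freeSec q) x
  refine ⟨V, hxV, fun V' hV' => ?_⟩
  have hle : V'.ι ''ᵁ ⊤ ≤ V := by
    rintro _ ⟨z, -, rfl⟩; exact hV' z.2
  choose t ht using hV _ hle
  let t' : I → Γ(F.restrict V'.ι, ⊤) := t
  refine ⟨(frRestrictIso V'.ι I).inv ≫ freeHom t', ?_⟩
  rw [← cancel_epi (frRestrictIso V'.ι I).hom, Category.assoc, Iso.hom_inv_id_assoc]
  apply free_hom_ext
  intro i
  change freeSec (freeHom t' ≫ (Scheme.Modules.restrictFunctor V'.ι).map φ) i =
    freeSec ((frRestrictIso V'.ι I).hom ≫ (Scheme.Modules.restrictFunctor V'.ι).map q) i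
  rw [comp_sec, freeSec_freeHom]
  exact (ht i).trans (frRestrictIso_hom_comp_sec V'.ι q i).symm

end local_lift

/-- A morphism out of a sum of two free modules. -/
noncomputable def frSum {M : X.Modules} {I J : Type u} (a : fr I ⟶ M) (b : fr J ⟶ M) :
    fr (I ⊕ J) ⟶ M :=
  freeHom (Sum.elim (freeSec a) (freeSec b))

/-- The map of free modules induced by a map of index types. -/
noncomputable def frMap {I J : Type u} (f : I → J) : (fr I : X.Modules) ⟶ fr J := SheafOfModules.freeMap f

lemma ιF_frMap {I J : Type u} (f : I → J) (i : I) :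
    ιF i ≫ (frMap f : (fr I : X.Modules) ⟶ fr J) = ιF (f i) := SheafOfModules.ιFree_freeMap f i

lemma frMap_inl_frSum {M : X.Modules} {I J : Type u} (a : fr I ⟶ M) (b : fr J ⟶ M) :
    frMap Sum.inl ≫ frSum a b = a :=
  free_hom_ext fun i => by
    rw [← Category.assoc, ιF_frMap, frSum, ιF_freeHom, secHom_app_one]; rfl

lemma frMap_inr_frSum {M : X.Modules} {I J : Type u} (a : fr I ⟶ M) (b : fr J ⟶ M) :
    frMap Sum.inr ≫ frSum a b = b :=
  free_hom_ext fun i => by
    rw [← Category.assoc, ιF_frMap, frSum, ιF_freeHom, secHom_app_one]; rfl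

lemma exact_elem {S : ShortComplex X.Modules} (h : S.Exact) (x : X) (b : (stalkAb x).obj S.X₂)
    (hb : (stalkAb x).map S.g b = 0) : ∃ a : (stalkAb x).obj S.X₁, (stalkAb x).map S.f a = b :=
  (exact_iff_stalk_eq_zero S).mp h x b hb

lemma stalk_comp_apply {M N P : X.Modules} (φ : M ⟶ N) (ψ : N ⟶ P) (x : X) (a : (stalkAb x).obj M) :
    (stalkAb x).map (φ ≫ ψ) a = (stalkAb x).map ψ ((stalkAb x).map φ a) := by
  rw [Functor.map_comp]; rfl

lemma stalk_sub_apply {M N : X.Modules} (φ ψ : M ⟶ N) (x : X) (a : (stalkAb x).obj M) :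
    (stalkAb x).map (φ - ψ) a = (stalkAb x).map φ a - (stalkAb x).map ψ a := by
  rw [Functor.map_sub]; rfl

/-- The key construction for `isFT_kernel`, on a small open. -/
lemma exists_epi_fr_kernel {P₀ P₁ F M G : X.Modules} {I K : Type u} [Finite I] [Finite K]
    (e : fr K ≅ P₁) (f : P₁ ⟶ P₀) (g : P₀ ⟶ M) (w : f ≫ g = 0) (hfg : (ShortComplex.mk f g w).Exact)
    (φ : F ⟶ M) (e' : fr I ≅ G) (ψ : G ⟶ F) [Epi ψ] (c : P₀ ⟶ F) (hc : c ≫ φ = g)
    (d : G ⟶ P₀) (hd : d ≫ g = ψ ≫ φ) :
    ∃ p : fr (K ⊕ I) ⟶ kernel φ, Epi p := by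
  let u₁ : P₁ ⟶ kernel φ := kernel.lift φ (f ≫ c) (by rw [Category.assoc, hc, w])
  let u₂ : G ⟶ kernel φ := kernel.lift φ (ψ - d ≫ c) (by
    rw [Preadditive.sub_comp, Category.assoc, hc, hd, sub_self])
  refine ⟨frSum (e.hom ≫ u₁) (e'.hom ≫ u₂), (epi_iff_stalk _).mpr fun x => ?_⟩
  intro (k : (stalkAb x).obj (kernel φ))
  obtain ⟨y, hy⟩ : ∃ y : (stalkAb x).obj G, (stalkAb x).map ψ y = (stalkAb x).map (kernel.ι φ) k :=
    (epi_iff_stalk ψ).mp inferInstance x _
  have hgd : (stalkAb x).map g ((stalkAb x).map d y) = 0 := by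
    rw [← stalk_comp_apply, hd, stalk_comp_apply, hy, ← stalk_comp_apply, kernel.condition,
      stalkAb_map_zero]
  obtain ⟨z, hz⟩ := exact_elem hfg x _ hgd
  change (stalkAb x).map f z = (stalkAb x).map d y at hz
  have hk : (stalkAb x).map u₁ z + (stalkAb x).map u₂ y = k := by
    apply (mono_iff_stalk (kernel.ι φ)).mp inferInstance x
    rw [map_add, ← stalk_comp_apply, ← stalk_comp_apply, kernel.lift_ι, kernel.lift_ι,
      stalk_sub_apply, stalk_comp_apply, stalk_comp_apply, hz, hy]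
    abel
  refine ⟨(stalkAb x).map (frMap Sum.inl : fr K ⟶ fr (K ⊕ I))
      ((stalkAb x).map e.inv z) +
    (stalkAb x).map (frMap Sum.inr : fr I ⟶ fr (K ⊕ I))
      ((stalkAb x).map e'.inv y), ?_⟩
  rw [map_add, ← stalk_comp_apply (frMap Sum.inl), ← stalk_comp_apply (frMap Sum.inr),
    frMap_inl_frSum, frMap_inr_frSum,
    ← stalk_comp_apply, ← stalk_comp_apply, Iso.inv_hom_id_assoc, Iso.inv_hom_id_assoc, hk]

lemma pres_w {M : SheafOfModules.{u} X.ringCatSheaf} (P : SheafOfModules.Presentation M) :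
    ((SheafOfModules.freeHomEquiv _).symm P.relations.s ≫ kernel.ι P.generators.π) ≫ P.generators.π = 0 := by
  exact (Category.assoc _ _ _).trans ((congrArg _ (kernel.condition _)).trans comp_zero)

lemma pres_exact {M : SheafOfModules.{u} X.ringCatSheaf} (P : SheafOfModules.Presentation M) :
    (ShortComplex.mk _ _ (pres_w P)).Exact :=
  ShortComplex.exact_of_g_is_cokernel _ P.isColimit

lemma exists_presentation_maps {M : X.Modules} (P : SheafOfModules.Presentation M) :
    ∃ (f : fr P.relations.I ⟶ fr P.generators.I) (g : fr P.generators.I ⟶ M) (w : f ≫ g = 0),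
      Epi g ∧ (ShortComplex.mk f g w).Exact := by
  let g : fr P.generators.I ⟶ M := P.generators.π
  let f : fr P.relations.I ⟶ fr P.generators.I :=
    ((SheafOfModules.freeHomEquiv _).symm P.relations.s ≫ kernel.ι _ :)
  have w : f ≫ g = 0 := pres_w (X := X) P
  refine ⟨f, g, w, P.generators.epi, ?_⟩
  exact pres_exact (X := X) P

/-- Kernel of an epimorphism from a generated module onto a presented one. -/
theorem isFT_kernel_global {F M : X.Modules} {I J K : Type u} [Finite I] [Finite J] [Finite K]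
    (f : fr K ⟶ fr J) (g : fr J ⟶ M) (w : f ≫ g = 0) (hfg : (ShortComplex.mk f g w).Exact)
    [Epi g] (φ : F ⟶ M) [Epi φ] (ψ : fr I ⟶ F) (hψ : Epi ψ) : CohB1.IsFT (kernel φ) := by
  haveI := hψ
  have hlift (x : X) : ∃ V : X.Opens, x ∈ V ∧
      ∃ p : fr (K ⊕ I) ⟶ kernel ((Scheme.Modules.restrictFunctor V.ι).map φ), Epi p := by
    obtain ⟨V₁, h₁, hc⟩ := exists_lift_fr φ g x
    obtain ⟨V₂, h₂, hd⟩ := exists_lift_fr g (ψ ≫ φ) x
    obtain ⟨c, hc⟩ := hc (V₁ ⊓ V₂) inf_le_left
    obtain ⟨d, hd⟩ := hd (V₁ ⊓ V₂) inf_le_right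
    let R := Scheme.Modules.restrictFunctor (V₁ ⊓ V₂).ι
    have hw : R.map f ≫ R.map g = 0 := by rw [← R.map_comp, w, R.map_zero]
    exact ⟨V₁ ⊓ V₂, ⟨h₁, h₂⟩,
      exists_epi_fr_kernel (frRestrictIso _ _) (R.map f) (R.map g) hw (ShortComplex.Exact.map hfg R)
        (R.map φ) (frRestrictIso _ _) (R.map ψ) c hc d (hd.trans (R.map_comp ψ φ))⟩
  choose V hzV p hp using hlift
  refine isFT_of_openImmersion_cover (fun z => (V z).ι)
    (fun z => ⟨z, by rw [Scheme.Opens.range_ι]; exact hzV z⟩) fun z => ?_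
  haveI := hp z
  exact isFT_of_isIso (PreservesKernel.iso (Scheme.Modules.restrictFunctor (V z).ι) φ).symm
    (isFT_of_epi_fr (p z))

/-- The kernel of an epimorphism from a finite type module to a finitely presented one is of finite
type. -/
theorem isFT_kernel {F M : X.Modules} (hF : CohB1.IsFT F) (hM : CohB1.IsFP M) (φ : F ⟶ M) [Epi φ] :
    CohB1.IsFT (kernel φ) := by
  -- reduce to an open where both are globally generated / presented
  have hloc (x : X) : ∃ U : X.Opens, x ∈ U ∧
      (∃ σ : SheafOfModules.GeneratingSections (F.restrict U.ι), Finite σ.I) ∧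
      ∃ P : SheafOfModules.Presentation (M.restrict U.ι), FinPres P := by
    obtain ⟨U, hxU, P, hP⟩ := (isFP_iff_presentation M).mp hM x
    obtain ⟨U', hxU', σ, hσ⟩ := (isFT_iff_generators F).mp hF x
    have h₁ : Set.range (U ⊓ U').ι ⊆ Set.range U.ι := by
      simp only [Scheme.Opens.range_ι]; exact Set.inter_subset_left
    have h₂ : Set.range (U ⊓ U').ι ⊆ Set.range U'.ι := by
      simp only [Scheme.Opens.range_ι]; exact Set.inter_subset_right
    exact ⟨U ⊓ U', ⟨hxU, hxU'⟩,
      ⟨genEpi (genRestrict σ (IsOpenImmersion.lift _ _ h₂)) (restrictLiftIso F _ _ h₂).hom, hσ⟩,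
      presIso (restrictLiftIso M _ _ h₁)
        (Scheme.Modules.presentationRestrict (IsOpenImmersion.lift _ _ h₁) P),
      finPres_presIso _ _ (finPres_presentationRestrict P _ hP)⟩
  choose U hxU hσP using hloc
  choose σ hσ using fun x => (hσP x).1
  choose P hP using fun x => (hσP x).2
  refine isFT_of_openImmersion_cover (fun x => (U x).ι)
    (fun x => ⟨x, by rw [Scheme.Opens.range_ι]; exact hxU x⟩) fun x₀ => ?_
  refine isFT_of_isIso (PreservesKernel.iso (Scheme.Modules.restrictFunctor (U x₀).ι) φ).symm ?_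
  let φ' := (Scheme.Modules.restrictFunctor (U x₀).ι).map φ
  obtain ⟨f, g, w, hg, hfg⟩ := exists_presentation_maps (P x₀)
  haveI := hg
  haveI := hσ x₀
  haveI := (hP x₀).1
  haveI := (hP x₀).2
  exact isFT_kernel_global f g w hfg ((Scheme.Modules.restrictFunctor (U x₀).ι).map φ) (σ x₀).π
    (σ x₀).epi

section spec

variable {R : CommRingCat.{u}}

/-- Global sections of a finite free module on `Spec R`, through `tilde`. -/
noncomputable def frTildeIso (I : Type u) :
    (tilde.functor R).obj (ModuleCat.of R (I →₀ R)) ≅ (fr I : (Spec R).Modules) :=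
  tildeFinsupp I

/-- A quasi-coherent finite type module on `Spec R` is generated by finitely many global sections. -/
theorem exists_epi_fr_spec (M : (Spec R).Modules) (hM : Coh.IsQCoh M) (hFT : CohB1.IsFT M) :
    ∃ (J : Type u) (_ : Finite J) (p : fr J ⟶ M), Epi p := by
  haveI := hM
  have hloc (x : Spec R) : ∃ (h : R) (I : Type u) (_ : Finite I) (m : I → Γ(M, ⊤)),
      x ∈ bo h ∧ ∀ (Q : (Spec R).Modules) (π : M ⟶ Q), (∀ i, π.app ⊤ (m i) = 0) →
        (Scheme.Modules.restrictFunctor (bo h).ι).map π = 0 := by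
    obtain ⟨U, hxU, σ, hσ⟩ := (isFT_iff_generators M).mp hFT x
    obtain ⟨_, ⟨h, rfl⟩, hxh, hhU⟩ := Opens.isBasis_iff_nbhd.mp isBasis_bo hxU
    have hr : Set.range (bo h).ι ⊆ Set.range U.ι := by
      simp only [Scheme.Opens.range_ι]; exact hhU
    let σ' := genEpi (genRestrict σ (IsOpenImmersion.lift _ _ hr)) (restrictLiftIso M U.ι _ hr).hom
    let p : fr σ'.I ⟶ M.restrict (bo h).ι := σ'.π
    haveI hp : Epi p := σ'.epi
    have hle : bo h ≤ (bo h).ι ''ᵁ ⊤ := fun y hy => ⟨⟨y, hy⟩, trivial, rfl⟩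
    have hge : (bo h).ι ''ᵁ ⊤ ≤ bo h := by rintro _ ⟨z, -, rfl⟩; exact z.2
    choose k m hm using fun i : σ'.I =>
      exists_pow_smul_eq_res M h (mres M hle (freeSec p i : Γ(M, (bo h).ι ''ᵁ ⊤)))
    refine ⟨h, σ'.I, hσ, m, hxh, fun Q π hπ => (cancel_epi p).mp ?_⟩
    rw [comp_zero]
    apply free_hom_ext
    intro i
    change π.app ((bo h).ι ''ᵁ ⊤) (freeSec p i : Γ(M, (bo h).ι ''ᵁ ⊤)) = _
    have h0 : π.app (bo h) (mres M hle (freeSec p i : Γ(M, (bo h).ι ''ᵁ ⊤))) = 0 := by
      refine eq_zero_of_pow_smul (f := gs h) (basicOpen_gs h).ge (n := k i) ?_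
      rw [← app_pow_smul, hm, app_mres, hπ, map_zero]
    have key (t : Γ(M, (bo h).ι ''ᵁ ⊤)) (ht : π.app (bo h) (mres M hle t) = 0) :
        π.app ((bo h).ι ''ᵁ ⊤) t = 0 := by
      have e : t = mres M hge (mres M hle t) := by rw [mres_mres, mres_id]
      rw [e, app_mres, ht, map_zero]
    exact key _ h0
  choose h I hI m hxh hkill using hloc
  obtain ⟨T, hT⟩ := isCompact_univ.elim_finite_subcover
    (fun x => ((bo (h x) : (Spec R).Opens) : Set (Spec R))) (fun x => (bo (h x)).isOpen)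
    (fun x _ => Set.mem_iUnion.mpr ⟨x, hxh x⟩)
  haveI (x : T) : Finite (I x.1) := hI x.1
  refine ⟨Σ x : T, I x.1, inferInstance, freeHom (fun q => m q.1.1 q.2), ?_⟩
  refine Preadditive.epi_of_cancel_zero _ fun {Q} π hπ => ?_
  refine hom_eq_zero_of_cover π (fun x : T => bo (h x.1)) (fun y => ?_) fun x =>
    hkill x.1 Q π fun i => ?_
  · obtain ⟨z, hz, hyz⟩ := Set.mem_iUnion₂.mp (hT (Set.mem_univ y))
    exact ⟨⟨z, hz⟩, hyz⟩
  · have := congrArg (fun t : fr _ ⟶ Q => freeSec t ⟨x, i⟩) hπ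
    simp only [comp_sec, freeSec_freeHom] at this
    exact this.trans rfl

/-- `Γ` of a morphism of quasi-coherent modules on `Spec R` is surjective if the morphism is epi. -/
theorem moduleSpecΓ_surjective {M N : (Spec R).Modules} (hM : Coh.IsQCoh M) (hN : Coh.IsQCoh N)
    (φ : M ⟶ N) [Epi φ] : Function.Surjective (moduleSpecΓFunctor.map φ) := by
  haveI := hM
  haveI := hN
  exact surjective_app_top φ (isQuasicoherent_kernel_spec φ)

theorem finite_sections_spec (M : (Spec R).Modules) (hM : Coh.IsQCoh M) (hFT : CohB1.IsFT M) :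
    Module.Finite R (moduleSpecΓFunctor.obj M) := by
  obtain ⟨J, hJ, p, hp⟩ := exists_epi_fr_spec M hM hFT
  haveI := hp
  haveI := hJ
  let A : ModuleCat.{u} R := ModuleCat.of R (J →₀ R)
  haveI : Module.Finite R A := inferInstanceAs (Module.Finite R (J →₀ R))
  let q : (tilde.functor R).obj A ⟶ M := (frTildeIso J).hom ≫ p
  have hs : Function.Surjective (moduleSpecΓFunctor.map q) :=
    moduleSpecΓ_surjective (inferInstanceAs (Coh.IsQCoh (tilde A))) hM q
  haveI : Module.Finite R (moduleSpecΓFunctor.obj ((tilde.functor R).obj A)) :=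
    Module.Finite.equiv (tilde.isoTop A).toLinearEquiv
  exact Module.Finite.of_surjective (moduleSpecΓFunctor.map q).hom hs

theorem isFT_tilde (N : ModuleCat.{u} R) [Module.Finite R N] : CohB1.IsFT (tilde N) := by
  obtain ⟨n, f, hf⟩ := Module.Finite.exists_fin' R N
  let e : (ULift.{u} (Fin n) →₀ R) ≃ₗ[R] (Fin n → R) :=
    (Finsupp.linearEquivFunOnFinite R R (ULift.{u} (Fin n))).trans
      (LinearEquiv.funCongrLeft R R Equiv.ulift.symm)
  let g : ModuleCat.of R (ULift.{u} (Fin n) →₀ R) ⟶ N := ModuleCat.ofHom (f.comp e.toLinearMap)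
  haveI : Epi g := (ModuleCat.epi_iff_surjective g).mpr (hf.comp e.surjective)
  haveI : Epi ((tilde.functor R).map g) := (tilde.functor R).map_epi g
  let r : fr (ULift.{u} (Fin n)) ⟶ tilde N :=
    (frTildeIso (ULift.{u} (Fin n))).inv ≫ (tilde.functor R).map g
  haveI : Epi r := @epi_comp _ _ _ _ _ (frTildeIso (ULift.{u} (Fin n))).inv inferInstance
    ((tilde.functor R).map g) ((tilde.functor R).map_epi g)
  exact isFT_of_epi_fr r

/-- On `Spec R`: finite type iff finitely generated sections. -/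
theorem isFT_iff_finite_spec (M : (Spec R).Modules) (hM : Coh.IsQCoh M) :
    CohB1.IsFT M ↔ Module.Finite R (moduleSpecΓFunctor.obj M) := by
  refine ⟨finite_sections_spec M hM, fun h => ?_⟩
  haveI := hM
  haveI := h
  exact isFT_of_isIso
    (@asIso _ _ _ _ M.fromTildeΓ (Scheme.Modules.isIso_fromTildeΓ_of_isQuasicoherent (R := R) M))
    (isFT_tilde (moduleSpecΓFunctor.obj M))

theorem isFP_tilde (N : ModuleCat.{u} R) [h : Module.FinitePresentation R N] :
    CohB1.IsFP (tilde N) := by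
  classical
  obtain ⟨s, hs, hs'⟩ := h
  have hfg : (LinearMap.ker (Finsupp.linearCombination R (Subtype.val : ↥(s : Set N) → N))).FG := hs'
  obtain ⟨t, ht⟩ := hfg
  let P := presentationTilde N (s : Set N) hs (t : Set (↥(s : Set N) →₀ R)) ht
  have hP : FinPres (X := Spec R) P :=
    ⟨inferInstanceAs (Finite ↥(s : Set N)),
      inferInstanceAs (Finite ↥(t : Set (↥(s : Set N) →₀ R)))⟩
  exact (isFP_iff_presentation _).mpr fun x =>
    ⟨⊤, trivial, _, finPres_presentationRestrict P _ hP⟩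

theorem finitePresentation_sections_spec (M : (Spec R).Modules) (hFP : CohB1.IsFP M) :
    Module.FinitePresentation R (moduleSpecΓFunctor.obj M) := by
  have hM := isFP_isQCoh hFP
  haveI := hM
  obtain ⟨J, hJ, p, hp⟩ := exists_epi_fr_spec M hM (isFP_isFT hFP)
  haveI := hp
  haveI := hJ
  let A : ModuleCat.{u} R := ModuleCat.of R (J →₀ R)
  let q : (tilde.functor R).obj A ⟶ M := (frTildeIso J).hom ≫ p
  haveI : Epi q := inferInstance
  have hA : Coh.IsQCoh ((tilde.functor R).obj A) := inferInstanceAs (Coh.IsQCoh (tilde A))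
  haveI := hA
  have hs : Function.Surjective (moduleSpecΓFunctor.map q) := moduleSpecΓ_surjective hA hM q
  haveI : Module.Finite R A := inferInstanceAs (Module.Finite R (J →₀ R))
  haveI : Module.Free R A := inferInstanceAs (Module.Free R (J →₀ R))
  haveI : Module.FinitePresentation R A := Module.finitePresentation_of_projective R A
  haveI : Module.FinitePresentation R (moduleSpecΓFunctor.obj ((tilde.functor R).obj A)) :=
    Module.finitePresentation_of_surjective (tilde.isoTop A).toLinearEquiv.toLinearMap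
      (tilde.isoTop A).toLinearEquiv.surjective (by
        refine Eq.mpr ?_ (Submodule.fg_bot (R := R) (M := A))
        exact congrArg _ (LinearMap.ker_eq_bot.mpr (tilde.isoTop A).toLinearEquiv.injective))
  have hK : CohB1.IsFT (kernel q) :=
    isFT_kernel (isFT_of_isIso (frTildeIso J).symm (isFT_fr _ J)) hFP q
  have hKq : Coh.IsQCoh (kernel q) := isQuasicoherent_kernel_spec q
  haveI := finite_sections_spec (kernel q) hKq hK
  refine Module.finitePresentation_of_surjective (moduleSpecΓFunctor.map q).hom hs ?_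
  have hle : LinearMap.ker (moduleSpecΓFunctor.map q).hom =
      LinearMap.range (moduleSpecΓFunctor.map (kernel.ι q)).hom := by
    ext b
    constructor
    · intro hb
      obtain ⟨a, ha⟩ := sections_exact (S := ShortComplex.mk _ _ (kernel.condition q))
        (ShortComplex.exact_kernel q) ⊤ b hb
      exact ⟨a, ha⟩
    · rintro ⟨a, rfl⟩
      exact ConcreteCategory.congr_hom
        (congrArg (fun t : kernel q ⟶ M => t.app ⊤) (kernel.condition q)) a
  rw [hle]
  exact Module.Finite.iff_fg.mp (Module.Finite.range _)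

/-- On `Spec R`: finitely presented iff finitely presented sections. -/
theorem isFP_iff_finitePresentation_spec (M : (Spec R).Modules) (hM : Coh.IsQCoh M) :
    CohB1.IsFP M ↔ Module.FinitePresentation R (moduleSpecΓFunctor.obj M) := by
  refine ⟨finitePresentation_sections_spec M, fun h => ?_⟩
  haveI := hM
  haveI := h
  exact isFP_of_isIso
    (@asIso _ _ _ _ M.fromTildeΓ (Scheme.Modules.isIso_fromTildeΓ_of_isQuasicoherent (R := R) M))
    (isFP_tilde (moduleSpecΓFunctor.obj M))

end spec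

end Groth.Agent.M1
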