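import Mathlib.AlgebraicGeometry.Noetherian
import Mathlib.RingTheory.Noetherian.Basic
import Groth.Prelude.Def_Coh
import Groth.Prelude.Def_CohB1
import Groth.Agent.Lib.ModM1.FT

/-!
M1: sections over affine opens, coherent modules on locally Noetherian schemes, support.
-/

universe u

open CategoryTheory Limits AlgebraicGeometry Opposite TopologicalSpace

namespace Groth.Agent.M1

variable {X : Scheme.{u}}

lemma fromSpec_image_top {U : X.Opens} (hU : IsAffineOpen U) : hU.fromSpec ''ᵁ ⊤ = U := by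
  rw [Scheme.Hom.image_top_eq_opensRange, hU.opensRange_fromSpec]

lemma fromSpec_appIso_inv {U : X.Opens} (hU : IsAffineOpen U) (r : Γ(X, U)) :
    (hU.fromSpec.appIso ⊤).inv
        ((Spec Γ(X, U)).presheaf.map (⊤ : (Spec Γ(X, U)).Opens).leTop.op
          ((Scheme.ΓSpecIso Γ(X, U)).inv r)) =
      X.presheaf.map (homOfLE (fromSpec_image_top hU).le).op r := by
  apply ((ConcreteCategory.isIso_iff_bijective (hU.fromSpec.appIso ⊤).hom).mp inferInstance).1
  rw [← ConcreteCategory.comp_apply, Iso.inv_hom_id, ConcreteCategory.id_apply]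
  simp only [← ConcreteCategory.comp_apply]
  congr 2
  rw [Scheme.Hom.appIso_hom', Scheme.Hom.map_appLE, Scheme.Hom.appLE, hU.fromSpec_app_self,
    Category.assoc]
  congr 1

/-- Sections over an affine open as global sections on its spectrum. -/
noncomputable def affineSec (M : X.Modules) {U : X.Opens} (hU : IsAffineOpen U) :
    Γ(M.restrict hU.fromSpec, ⊤) →+ Γ(M, U) :=
  ((M.restrictAppIso hU.fromSpec ⊤).hom ≫ mres M (fromSpec_image_top hU).ge).hom

lemma affineSec_apply (M : X.Modules) {U : X.Opens} (hU : IsAffineOpen U)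
    (m : Γ(M.restrict hU.fromSpec, ⊤)) :
    affineSec M hU m = mres M (fromSpec_image_top hU).ge ((M.restrictAppIso hU.fromSpec ⊤).hom m) := rfl

lemma affineSec_smul (M : X.Modules) {U : X.Opens} (hU : IsAffineOpen U) (r : Γ(X, U))
    (m : Γ(M.restrict hU.fromSpec, ⊤)) : affineSec M hU (r • m) = r • affineSec M hU m := by
  rw [affineSec_apply, affineSec_apply, Scheme.Modules.smul_Spec_def,
    Scheme.Modules.smul_restrictAppIso_hom_apply, fromSpec_appIso_inv hU r,
    Scheme.Modules.map_smul]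
  congr 1
  rw [← ConcreteCategory.comp_apply, ← X.presheaf.map_comp]
  exact ConcreteCategory.congr_hom (X.presheaf.map_id (op U)) r

/-- Sections over an affine open as global sections on its spectrum, as a linear equivalence. -/
noncomputable def affineSecEquiv (M : X.Modules) {U : X.Opens} (hU : IsAffineOpen U) :
    Γ(M.restrict hU.fromSpec, ⊤) ≃ₗ[Γ(X, U)] Γ(M, U) where
  toFun := affineSec M hU
  map_add' := map_add _
  map_smul' := affineSec_smul M hU
  invFun s := (M.restrictAppIso hU.fromSpec ⊤).inv (mres M (fromSpec_image_top hU).le s)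
  left_inv m := by
    dsimp only
    rw [affineSec_apply, mres_mres, mres_id, Iso.hom_inv_id_apply]
  right_inv s := by
    dsimp only
    rw [affineSec_apply, Iso.inv_hom_id_apply, mres_mres, mres_id]

theorem finitePresentation_of_linearEquiv {R A B : Type*} [Ring R] [AddCommGroup A] [Module R A]
    [AddCommGroup B] [Module R B] (e : A ≃ₗ[R] B) [Module.FinitePresentation R A] :
    Module.FinitePresentation R B :=
  Module.finitePresentation_of_surjective e.toLinearMap e.surjective
    (by rw [LinearEquiv.ker]; exact Submodule.fg_bot)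

theorem finite_sections {M : X.Modules} (hM : Coh.IsQCoh M) (hFT : CohB1.IsFT M) {U : X.Opens}
    (hU : IsAffineOpen U) : Module.Finite Γ(X, U) Γ(M, U) := by
  haveI : Module.Finite Γ(X, U) Γ(M.restrict hU.fromSpec, ⊤) :=
    finite_sections_spec _ (isQCoh_fromSpec hM hU) (isFT_restrict hFT _)
  exact Module.Finite.equiv (affineSecEquiv M hU)

theorem finitePresentation_sections {M : X.Modules} (hFP : CohB1.IsFP M) {U : X.Opens}
    (hU : IsAffineOpen U) : Module.FinitePresentation Γ(X, U) Γ(M, U) := by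
  haveI : Module.FinitePresentation Γ(X, U) Γ(M.restrict hU.fromSpec, ⊤) :=
    finitePresentation_sections_spec _ (isFP_restrict hFP _)
  exact finitePresentation_of_linearEquiv (affineSecEquiv M hU)

theorem isFT_of_finite_sections {M : X.Modules} (hM : Coh.IsQCoh M)
    (h : ∀ (U : X.Opens), IsAffineOpen U → Module.Finite Γ(X, U) Γ(M, U)) : CohB1.IsFT M :=
  isFT_of_fromSpec fun U hU =>
    (isFT_iff_finite_spec _ (isQCoh_fromSpec hM hU)).mpr
      (haveI := h U hU; Module.Finite.equiv (affineSecEquiv M hU).symm)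

theorem isFP_of_finitePresentation_sections {M : X.Modules} (hM : Coh.IsQCoh M)
    (h : ∀ (U : X.Opens), IsAffineOpen U → Module.FinitePresentation Γ(X, U) Γ(M, U)) : CohB1.IsFP M :=
  isFP_of_fromSpec fun U hU => by
    haveI := h U hU
    exact (isFP_iff_finitePresentation_spec _ (isQCoh_fromSpec hM hU)).mpr
      (finitePresentation_of_linearEquiv (affineSecEquiv M hU).symm)

/-- An epimorphism with quasi-coherent kernel is surjective on sections over affine opens. -/
theorem app_surjective_affine {M N : X.Modules} (φ : M ⟶ N) [Epi φ] (hK : Coh.IsQCoh (kernel φ))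
    {U : X.Opens} (hU : IsAffineOpen U) : Function.Surjective (φ.app U) := by
  intro s
  let R := Scheme.Modules.restrictFunctor hU.fromSpec
  haveI : Epi (R.map φ) := inferInstance
  obtain ⟨m, hm⟩ := surjective_app_top (R.map φ)
    (isQCoh_of_isIso (PreservesKernel.iso R φ) (isQCoh_fromSpec hK hU))
    ((N.restrictAppIso hU.fromSpec ⊤).inv (mres N (fromSpec_image_top hU).le s))
  have hm' : φ.app (hU.fromSpec ''ᵁ ⊤) ((M.restrictAppIso hU.fromSpec ⊤).hom m) =
      mres N (fromSpec_image_top hU).le s := hm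
  refine ⟨mres M (fromSpec_image_top hU).ge ((M.restrictAppIso hU.fromSpec ⊤).hom m), ?_⟩
  rw [app_mres, hm', mres_mres, mres_id]

theorem app_surjective_affine_of_isQCoh {M N : X.Modules} (hM : Coh.IsQCoh M) (hN : Coh.IsQCoh N)
    (φ : M ⟶ N) [Epi φ] {U : X.Opens} (hU : IsAffineOpen U) : Function.Surjective (φ.app U) :=
  app_surjective_affine φ (isQCoh_kernel hM hN φ) hU

section coherent

variable [IsLocallyNoetherian X]

theorem isFP_of_isCoh {M : X.Modules} (h : Coh.IsCoh M) : CohB1.IsFP M :=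
  isFP_of_finitePresentation_sections h.1 fun U hU => by
    haveI : IsNoetherianRing Γ(X, U) := IsLocallyNoetherian.component_noetherian ⟨U, hU⟩
    haveI := finite_sections h.1 h.2 hU
    exact Module.finitePresentation_of_finite _ _

theorem isCoh_iff_isFP (M : X.Modules) : Coh.IsCoh M ↔ CohB1.IsFP M :=
  ⟨isFP_of_isCoh, fun h => ⟨isFP_isQCoh h, isFP_isFT h⟩⟩

/-- A quasi-coherent submodule of a coherent module is coherent. -/
theorem isCoh_of_mono {M N : X.Modules} (i : N ⟶ M) [Mono i] (hM : Coh.IsCoh M)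
    (hN : Coh.IsQCoh N) : Coh.IsCoh N := by
  refine ⟨hN, isFT_of_finite_sections hN fun U hU => ?_⟩
  haveI : IsNoetherianRing Γ(X, U) := IsLocallyNoetherian.component_noetherian ⟨U, hU⟩
  haveI := finite_sections hM.1 hM.2 hU
  let f : Γ(N, U) →ₗ[Γ(X, U)] Γ(M, U) :=
    { toFun := i.app U, map_add' := map_add (i.app U).hom, map_smul' := i.app_smul }
  exact Module.Finite.of_injective f (app_injective i U)

theorem isCoh_kernel {M N : X.Modules} (hM : Coh.IsCoh M) (hN : Coh.IsQCoh N) (φ : M ⟶ N) :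
    Coh.IsCoh (kernel φ) :=
  isCoh_of_mono (kernel.ι φ) hM (isQCoh_kernel hM.1 hN φ)

theorem isCoh_cokernel {M N : X.Modules} (hM : Coh.IsQCoh M) (hN : Coh.IsCoh N) (φ : M ⟶ N) :
    Coh.IsCoh (cokernel φ) :=
  ⟨isQCoh_cokernel hM hN.1 φ, isFT_of_epi (cokernel.π φ) hN.2⟩

end coherent

theorem isCoh_structureModule (X : Scheme.{u}) : Coh.IsCoh (Coh.structureModule X) := by
  let p : fr PUnit.{u + 1} ⟶ Coh.structureModule X := freeHom (fun _ => one ⊤)
  have h : ιF PUnit.unit ≫ p = 𝟙 _ := unit_hom_ext (by rw [ιF_freeHom, secHom_app_one]; rfl)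
  haveI : IsSplitEpi p := ⟨⟨⟨_, h⟩⟩⟩
  exact ⟨isQCoh_structureModule X, isFT_of_epi_fr p⟩

section support

lemma mem_support_iff (M : X.Modules) (x : X) :
    x ∈ CohB1.support M ↔ ∃ a : M.presheaf.stalk x, a ≠ 0 := by
  constructor
  · intro h
    by_contra h'
    push Not at h'
    exact h ⟨fun a b => (h' a).trans (h' b).symm⟩
  · rintro ⟨a, ha⟩ h
    exact ha (h.elim a 0)

lemma notMem_support_iff (M : X.Modules) (x : X) :
    x ∉ CohB1.support M ↔ ∀ a : M.presheaf.stalk x, a = 0 := by
  rw [mem_support_iff]; push Not; rfl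

lemma subsingleton_stalk_restrict_iff {Y : Scheme.{u}} (j : Y ⟶ X) [IsOpenImmersion j]
    (M : X.Modules) (y : Y) : y ∈ CohB1.support (M.restrict j) ↔ j y ∈ CohB1.support M := by
  have e := ((Scheme.Modules.restrictStalkNatIso j y).app M).addCommGroupIsoToAddEquiv.toEquiv
  exact not_congr ⟨fun h => @Equiv.subsingleton _ _ e.symm h, fun h => @Equiv.subsingleton _ _ e h⟩

/-- A generated module is zero on an open on which all the generators vanish. -/
lemma isZero_restrict_of_freeSec {N : X.Modules} {I : Type u} (p : fr I ⟶ N) [Epi p] (V : X.Opens)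
    (h : ∀ i, mres N (le_top : V.ι ''ᵁ ⊤ ≤ ⊤) (freeSec p i) = 0) : IsZero (N.restrict V.ι) := by
  let R := Scheme.Modules.restrictFunctor V.ι
  have h0 : R.map p = 0 := by
    rw [← cancel_epi (frRestrictIso V.ι I).hom, comp_zero]
    apply free_hom_ext
    intro i
    refine ((frRestrictIso_hom_comp_sec V.ι p i).trans (h i)).trans ?_
    rw [comp_zero]; rfl
  exact IsZero.of_epi_eq_zero (R.map p) h0

/-- The support of a finite type module is closed. -/
theorem isClosed_support {M : X.Modules} (hM : CohB1.IsFT M) : IsClosed (CohB1.support M) := by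
  rw [← isOpen_compl_iff, isOpen_iff_forall_mem_open]
  intro x hx
  obtain ⟨U, hxU, σ, hσ⟩ := (isFT_iff_generators M).mp hM x
  haveI := hσ
  let p : fr σ.I ⟶ M.restrict U.ι := σ.π
  haveI hp : Epi p := σ.epi
  have hx' := (notMem_support_iff M x).mp hx
  have hxU' : x ∈ U.ι ''ᵁ ⊤ := ⟨⟨x, hxU⟩, trivial, rfl⟩
  let t (i : σ.I) : Γ(M, U.ι ''ᵁ ⊤) := freeSec p i
  choose W hxW i₁ i₂ he using fun i : σ.I => M.presheaf.germ_eq x hxU' hxU' (t i) 0
    ((hx' _).trans (map_zero _).symm)
  let V : (U : Scheme.{u}).Opens := U.ι ⁻¹ᵁ (⨅ i, W i)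
  have hW (i : σ.I) : mres M (i₁ i).le (t i) = 0 := (he i).trans (map_zero _)
  have hVW (i : σ.I) : U.ι ''ᵁ (V.ι ''ᵁ ⊤) ≤ W i := by
    rintro _ ⟨_, ⟨⟨z, hz⟩, -, rfl⟩, rfl⟩
    exact iInf_le W i hz
  have h1 (i : σ.I) :
      mres M (Scheme.Hom.image_mono U.ι (le_top : V.ι ''ᵁ ⊤ ≤ ⊤)) (t i) = 0 := by
    rw [← mres_mres M (i₁ i).le (hVW i) (t i), hW, map_zero]
  have hz : IsZero ((M.restrict U.ι).restrict V.ι) :=
    isZero_restrict_of_freeSec p V h1
  refine ⟨((U ⊓ ⨅ i, W i : X.Opens) : Set X), fun y hy => ?_, Opens.isOpen _, hxU, ?_⟩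
  · let y' : (U : Scheme.{u}) := ⟨y, hy.1⟩
    let y'' : (V : Scheme.{u}) := ⟨y', hy.2⟩
    intro hmem
    exact ((subsingleton_stalk_restrict_iff V.ι (M.restrict U.ι) y'').mpr
      ((subsingleton_stalk_restrict_iff U.ι M y').mpr hmem))
        (AddCommGrpCat.subsingleton_of_isZero ((stalkAb y'').map_isZero hz))
  · rw [Opens.coe_iInf]; exact Set.mem_iInter.mpr hxW

end support

end Groth.Agent.M1
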