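import Mathlib.RingTheory.Localization.Finiteness
import Groth.Prelude.Def_FlatMod2
import Groth.Agent.Lib.ModM1.Coh

/-!
M1: stalks of modules as modules over the local rings; sections over basic opens of an affine open and
stalks of quasi-coherent modules are localisations.
-/

universe u

open CategoryTheory Limits AlgebraicGeometry Opposite TopologicalSpace

namespace Groth.Agent.M1

variable {X : Scheme.{u}}

/-- Restriction of functions. -/
noncomputable abbrev ores {U V : X.Opens} (h : V ≤ U) : Γ(X, U) ⟶ Γ(X, V) :=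
  X.presheaf.map (homOfLE h).op

lemma ores_ores {U V W : X.Opens} (h : V ≤ U) (h' : W ≤ V) (r : Γ(X, U)) :
    ores h' (ores h r) = ores (h'.trans h) r :=
  (ConcreteCategory.congr_hom (X.presheaf.map_comp (homOfLE h).op (homOfLE h').op) r).symm

@[simp] lemma ores_id {U : X.Opens} (h : U ≤ U) (r : Γ(X, U)) : ores h r = r :=
  ConcreteCategory.congr_hom (X.presheaf.map_id (op U)) r

lemma mres_smul (M : X.Modules) {U V : X.Opens} (h : V ≤ U) (r : Γ(X, U)) (m : Γ(M, U)) :
    mres M h (r • m) = ores h r • mres M h m := Scheme.Modules.map_smul M _ r m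

lemma germ_smul (M : X.Modules) {U : X.Opens} {x : X} (hx : x ∈ U) (r : Γ(X, U)) (m : Γ(M, U)) :
    M.presheaf.germ U x hx (r • m) =
      X.presheaf.germ U x hx r • (M.presheaf.germ U x hx m : M.presheaf.stalk x) :=
  PresheafOfModules.germ_smul (R := X.presheaf)
    (show PresheafOfModules (X.presheaf ⋙ forget₂ CommRingCat RingCat) from M.val) x U hx r m

lemma germ_mres (M : X.Modules) {U V : X.Opens} (h : V ≤ U) {x : X} (hx : x ∈ V) (m : Γ(M, U)) :
    M.presheaf.germ V x hx (mres M h m) = M.presheaf.germ U x (h hx) m :=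
  M.presheaf.germ_res_apply (homOfLE h) x hx m

section affine

variable (M : X.Modules) [Coh.IsQCoh M] {U : X.Opens} (hU : IsAffineOpen U) (g : Γ(X, U))

omit [Coh.IsQCoh M] in
lemma restrict_ι_smul {W : (U : Scheme.{u}).Opens} (r : Γ(X, U.ι ''ᵁ W))
    (m : Γ(M.restrict U.ι, W)) :
    (M.restrictAppIso U.ι W).hom ((show Γ((U : Scheme.{u}), W) from r) • m) =
      r • (M.restrictAppIso U.ι W).hom m := by
  rw [Scheme.Modules.smul_restrictAppIso_hom_apply, Scheme.Opens.ι_appIso, Iso.refl_inv]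
  rfl

lemma image_ι_top (U : X.Opens) : U.ι ''ᵁ ⊤ = U := by simp

omit [Coh.IsQCoh M] in
lemma image_ι_basicOpen (g : Γ(X, U)) :
    U.ι ''ᵁ ((⊤ : (U : Scheme.{u}).Opens) ⊓ (U : Scheme.{u}).basicOpen (ores (image_ι_top U).le g)) =
      X.basicOpen g := by
  rw [top_inf_eq]
  refine (Scheme.image_basicOpen U.ι _).trans ?_
  rw [Scheme.Opens.ι_appIso, Iso.refl_inv]
  refine (Scheme.basicOpen_res X g (homOfLE (image_ι_top U).le).op).trans ?_
  rw [image_ι_top]
  exact inf_eq_right.mpr (X.basicOpen_le g)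

include hU

/-- On an affine open, a section over a basic open extends after multiplying by a power. -/
theorem exists_pow_smul_eq_res_affine (t : Γ(M, X.basicOpen g)) :
    ∃ (k : ℕ) (t₀ : Γ(M, U)),
      mres M (X.basicOpen_le g) t₀ = ores (X.basicOpen_le g) g ^ k • t := by
  haveI : IsAffine U := hU
  have e := image_ι_basicOpen (X := X) g
  obtain ⟨k, t', ht⟩ := locSurj_affine (M.restrict U.ι) (ores (image_ι_top U).le g)
    (isAffineOpen_top (U : Scheme.{u})) (mres M e.le t)
  let t'' : Γ(M, U.ι ''ᵁ ⊤) := t'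
  refine ⟨k, mres M (image_ι_top U).ge t'', ?_⟩
  let W : X.Opens := U.ι ''ᵁ ((⊤ : (U : Scheme.{u}).Opens) ⊓
    (U : Scheme.{u}).basicOpen (ores (image_ι_top U).le g))
  have hW : W ≤ U.ι ''ᵁ ⊤ := Scheme.Hom.image_mono U.ι inf_le_left
  have ht' : mres M hW t'' = ores hW (ores (image_ι_top U).le g) ^ k • mres M e.le t :=
    ht.trans (restrict_ι_smul M _ _)
  rw [ores_ores] at ht'
  rw [mres_mres, ← mres_mres M hW e.ge, ht', mres_smul, map_pow, ores_ores, mres_mres, mres_id]

/-- On an affine open, a section killed on a basic open is killed by a power. -/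
theorem exists_pow_smul_eq_zero_affine (t : Γ(M, U)) (ht : mres M (X.basicOpen_le g) t = 0) :
    ∃ n : ℕ, g ^ n • t = 0 := by
  haveI : IsAffine U := hU
  have e := image_ι_basicOpen (X := X) g
  obtain ⟨n, hn⟩ := locInj_affine (M.restrict U.ι) (ores (image_ι_top U).le g)
    (isAffineOpen_top (U : Scheme.{u})) (mres M (image_ι_top U).le t) (by
      refine (mres_mres M (image_ι_top U).le (Scheme.Hom.image_mono U.ι inf_le_left) t).trans ?_
      rw [← mres_mres M (X.basicOpen_le g) e.le, ht, map_zero]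
      rfl)
  refine ⟨n, ?_⟩
  have hn₀ : ores (le_refl (U.ι ''ᵁ ⊤)) (ores (image_ι_top U).le g) ^ n •
      mres M (image_ι_top U).le t = 0 := (restrict_ι_smul M _ _).symm.trans hn
  have hn' : ores (image_ι_top U).le g ^ n • mres M (image_ι_top U).le t = 0 := by
    rwa [ores_id] at hn₀
  have := congrArg (mres M (image_ι_top U).ge) hn'
  rwa [mres_smul, map_zero, map_pow, ores_ores, ores_id, mres_mres, mres_id] at this

variable {x : X} (hx : x ∈ U)

omit [Coh.IsQCoh M] in
lemma isUnit_germ_iff (r : Γ(X, U)) :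
    IsUnit (X.presheaf.germ U x hx r) ↔ r ∈ (hU.primeIdealOf ⟨x, hx⟩).asIdeal.primeCompl := by
  let := TopCat.Presheaf.algebra_section_stalk X.presheaf (⟨x, hx⟩ : U)
  have := hU.isLocalization_stalk ⟨x, hx⟩
  exact IsLocalization.AtPrime.isUnit_to_map_iff (X.presheaf.stalk x) _ r

theorem exists_germ_smul_eq (a : M.presheaf.stalk x) :
    ∃ (r : Γ(X, U)) (m : Γ(M, U)), IsUnit (X.presheaf.germ U x hx r) ∧
      X.presheaf.germ U x hx r • a = M.presheaf.germ U x hx m := by
  obtain ⟨V, hxV, s, rfl⟩ := M.presheaf.exists_germ_eq a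
  obtain ⟨g, hgV, hxg⟩ := hU.exists_basicOpen_le ⟨x, hxV⟩ hx
  obtain ⟨k, t₀, ht⟩ := exists_pow_smul_eq_res_affine M hU g (mres M hgV s)
  refine ⟨g ^ k, t₀, ?_, ?_⟩
  · rw [map_pow]; exact ((X.mem_basicOpen g x hx).mp hxg).pow k
  · have h1 := congrArg (M.presheaf.germ (X.basicOpen g) x hxg) ht
    rw [germ_mres, germ_smul, germ_mres, map_pow, TopCat.Presheaf.germ_res_apply] at h1
    rw [map_pow]
    exact h1.symm

theorem exists_smul_eq_zero_of_germ_eq_zero (m : Γ(M, U)) (hm : M.presheaf.germ U x hx m = 0) :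
    ∃ r : Γ(X, U), IsUnit (X.presheaf.germ U x hx r) ∧ r • m = 0 := by
  obtain ⟨V, hxV, i₁, i₂, he⟩ := M.presheaf.germ_eq x hx hx m 0 (hm.trans (map_zero _).symm)
  obtain ⟨g, hgV, hxg⟩ := hU.exists_basicOpen_le ⟨x, hxV⟩ hx
  obtain ⟨n, hn⟩ := exists_pow_smul_eq_zero_affine M hU g m (by
    rw [← mres_mres M i₁.le hgV]
    refine (congrArg _ he).trans ?_
    rw [map_zero, map_zero])
  exact ⟨g ^ n, by rw [map_pow]; exact ((X.mem_basicOpen g x hx).mp hxg).pow n, hn⟩

omit [Coh.IsQCoh M] hU in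
/-- The `Γ(X, U)`-module structure on the stalk at a point of `U`. -/
@[reducible] noncomputable def stalkModule : Module Γ(X, U) (M.presheaf.stalk x) :=
  Module.compHom _ (X.presheaf.germ U x hx).hom

omit [Coh.IsQCoh M] hU in
/-- The germ map, linear over `Γ(X, U)`. -/
noncomputable def germₗ :
    letI := stalkModule M hx
    Γ(M, U) →ₗ[Γ(X, U)] M.presheaf.stalk x :=
  letI := stalkModule M hx
  { toFun := M.presheaf.germ U x hx
    map_add' := map_add (M.presheaf.germ U x hx).hom
    map_smul' := germ_smul M hx }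

/-- The stalk of a quasi-coherent module is the localisation of the sections over an affine open. -/
theorem isLocalizedModule_germ :
    letI := stalkModule M hx
    IsLocalizedModule (hU.primeIdealOf ⟨x, hx⟩).asIdeal.primeCompl (germₗ M hx) := by
  letI := stalkModule M hx
  constructor
  · intro r
    rw [Module.End.isUnit_iff]
    obtain ⟨u, hu⟩ := (isUnit_germ_iff hU hx r.1).mpr r.2
    refine Function.bijective_iff_has_inverse.mpr ⟨fun a => (↑u⁻¹ : X.presheaf.stalk x) • a,
      fun a => ?_, fun a => ?_⟩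
    · change (↑u⁻¹ : X.presheaf.stalk x) • (X.presheaf.germ U x hx r.1 • a) = a
      rw [← hu, ← mul_smul, Units.inv_mul, one_smul]
    · change X.presheaf.germ U x hx r.1 • ((↑u⁻¹ : X.presheaf.stalk x) • a) = a
      rw [← hu, ← mul_smul, Units.mul_inv, one_smul]
  · intro a
    obtain ⟨r, m, hr, h⟩ := exists_germ_smul_eq M hU hx a
    exact ⟨⟨m, ⟨r, (isUnit_germ_iff hU hx r).mp hr⟩⟩, h⟩
  · intro m₁ m₂ h
    obtain ⟨r, hr, h0⟩ := exists_smul_eq_zero_of_germ_eq_zero M hU hx (m₁ - m₂)
      ((map_sub _ m₁ m₂).trans (sub_eq_zero.mpr h))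
    exact ⟨⟨r, (isUnit_germ_iff hU hx r).mp hr⟩, sub_eq_zero.mp ((smul_sub r m₁ m₂).symm.trans h0)⟩

end affine

/-- The stalks of a quasi-coherent finite type module are finite. -/
theorem finite_stalk {M : X.Modules} (hM : Coh.IsQCoh M) (hFT : CohB1.IsFT M) (x : X) :
    Module.Finite (X.presheaf.stalk x) (M.presheaf.stalk x) := by
  haveI := hM
  obtain ⟨U, hU, hxU, -⟩ := exists_isAffineOpen_mem_and_subset (x := x) (U := ⊤) trivial
  obtain ⟨s, hs⟩ := (finite_sections hM hFT hU).fg_top
  classical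
  refine ⟨s.image (M.presheaf.germ U x hxU), top_le_iff.mp fun a _ => ?_⟩
  obtain ⟨r, m, hr, h⟩ := exists_germ_smul_eq M hU hxU a
  have hspan : ∀ y ∈ Submodule.span Γ(X, U) (s : Set Γ(M, U)), M.presheaf.germ U x hxU y ∈
      Submodule.span (X.presheaf.stalk x) (↑(s.image (M.presheaf.germ U x hxU)) : Set (M.presheaf.stalk x)) := by
    intro y hy
    induction hy using Submodule.span_induction with
    | mem y hy => exact Submodule.subset_span (by rw [Finset.coe_image]; exact ⟨y, hy, rfl⟩)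
    | zero => rw [map_zero]; exact Submodule.zero_mem _
    | add y z _ _ hy hz => rw [map_add]; exact Submodule.add_mem _ hy hz
    | smul c y _ hy => rw [germ_smul]; exact Submodule.smul_mem _ _ hy
  have hm := hspan m (by rw [hs]; trivial)
  obtain ⟨u, hu⟩ := hr
  have : a = (↑u⁻¹ : X.presheaf.stalk x) • M.presheaf.germ U x hxU m := by
    rw [← h, ← hu, ← mul_smul, Units.inv_mul, one_smul]
  rw [this]
  exact Submodule.smul_mem _ _ hm

end Groth.Agent.M1
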