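import Mathlib.AlgebraicGeometry.Morphisms.QuasiSeparated
import Groth.Prelude.Def_Coh
import Groth.Agent.Lib.ModM1.Coh

/-!
M1: restriction commutes with pushforward; direct images of quasi-coherent modules along qcqs morphisms.
-/

universe u

open CategoryTheory Limits AlgebraicGeometry Opposite TopologicalSpace

namespace Groth.Agent.M1

section bc

variable {X Y U V : Scheme.{u}} {f : X ⟶ Y} {f' : U ⟶ V} {i : U ⟶ X} {j : V ⟶ Y}
  [IsOpenImmersion i] [IsOpenImmersion j]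

lemma image_preimage_eq (H : IsPullback f' i j f) (W : V.Opens) :
    i ''ᵁ (f' ⁻¹ᵁ W) = f ⁻¹ᵁ (j ''ᵁ W) :=
  IsOpenImmersion.image_preimage_eq_preimage_image_of_isPullback H W

lemma appIso_pullback (H : IsPullback f' i j f) (W : V.Opens) :
    (j.appIso W).inv ≫ f.app (j ''ᵁ W) ≫
        X.presheaf.map (homOfLE (image_preimage_eq H W).le).op ≫ (i.appIso (f' ⁻¹ᵁ W)).hom =
      f'.app W := by
  rw [← cancel_epi (j.appIso W).hom, Iso.hom_inv_id_assoc, Scheme.Hom.appIso_hom',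
    Scheme.Hom.appIso_hom', Scheme.Hom.map_appLE, Scheme.Hom.app_eq_appLE,
    Scheme.Hom.app_eq_appLE, Scheme.Hom.appLE_comp_appLE, Scheme.Hom.appLE_comp_appLE]
  simp only [H.w]

/-- Restriction to an open commutes with pushforward. -/
noncomputable def pushRestrictIso (H : IsPullback f' i j f) (F : X.Modules) :
    ((Scheme.Modules.pushforward f).obj F).restrict j ≅
      (Scheme.Modules.pushforward f').obj (F.restrict i) :=
  Scheme.Modules.fullyFaithfulToPresheafOfModules.preimageIso <| PresheafOfModules.isoMk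
    (fun W => ModuleCat.isoMk
      (F.presheaf.mapIso (eqToIso (image_preimage_eq H W.unop)).op) (by
        intro (r : Γ(V, W.unop))
        ext (s : Γ(F, f ⁻¹ᵁ (j ''ᵁ W.unop)))
        change (i.appIso (f' ⁻¹ᵁ W.unop)).inv (f'.app W.unop r) •
            mres F (image_preimage_eq H W.unop).le s =
          mres F (image_preimage_eq H W.unop).le
            (f.app (j ''ᵁ W.unop) ((j.appIso W.unop).inv r) • s)
        rw [Scheme.Modules.map_smul, ← appIso_pullback H W.unop]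
        simp only [ConcreteCategory.comp_apply, Iso.hom_inv_id_apply]))
    (fun W W' g => by
      ext s
      change mres F _ (mres F _ (s : Γ(F, f ⁻¹ᵁ (j ''ᵁ W.unop)))) = mres F _ (mres F _ s)
      exact (mres_mres F _ _ s).trans (mres_mres F _ _ s).symm)

end bc

/-- A module on `Spec R` whose global sections localise is quasi-coherent. -/
lemma isQuasicoherent_of_loc {R : CommRingCat.{u}} (N : (Spec R).Modules)
    (hinj : ∀ r : R, LocInj N (gs r) ⊤) (hsurj : ∀ r : R, LocSurj N (gs r) ⊤) :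
    N.IsQuasicoherent := by
  rw [isQuasicoherent_iff_isIso_fromTildeΓ, isIso_fromTildeΓ_iff_isLocalizing]
  intro r
  have hle : bo r ≤ ⊤ ⊓ (Spec R).basicOpen (gs r) := by rw [basicOpen_gs, top_inf_eq]
  have hge : ⊤ ⊓ (Spec R).basicOpen (gs r) ≤ bo r := by rw [basicOpen_gs, top_inf_eq]
  refine IsLocalizedModule.Away.mk_of_addCommGroup ?_ ?_ ?_
  · exact Scheme.Modules.isUnit_algebraMap_end_of_le_basicOpen r le_rfl
  · intro x
    have key (x : Γ(N, bo r)) : ∃ (n : ℕ) (t : Γ(N, ⊤)), r ^ n • x = mres N le_top t := by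
      obtain ⟨n, t, ht⟩ := hsurj r (mres N hge x)
      refine ⟨n, t, ?_⟩
      rw [← mres_mres N inf_le_left hle, ht, mres_pow_smul, mres_mres, mres_id, pow_smul_eq]
    exact key x
  · suffices key : ∀ t : Γ(N, ⊤), mres N (le_top : bo r ≤ ⊤) t = 0 → ∃ n : ℕ, r ^ n • t = 0 by
      intro t ht; exact key t ht
    intro t ht
    obtain ⟨n, hn⟩ := hinj r t (by rw [← mres_mres N le_top hge, ht, map_zero])
    exact ⟨n, by rw [pow_smul_eq]; exact hn⟩

lemma app_rs {X Y : Scheme.{u}} (f : X ⟶ Y) (g : Γ(Y, ⊤)) (V : Y.Opens) :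
    f.app V (rs V g) = rs (f ⁻¹ᵁ V) (f.appTop g) :=
  ConcreteCategory.congr_hom (f.naturality (homOfLE (le_top : V ≤ ⊤)).op) g

/-- The direct image to an affine scheme of a quasi-coherent module on a qcqs scheme. -/
lemma isQuasicoherent_push_spec {X : Scheme.{u}} [CompactSpace X] [QuasiSeparatedSpace X]
    {R : CommRingCat.{u}} (f : X ⟶ Spec R) (F : X.Modules) [Coh.IsQCoh F] :
    Coh.IsQCoh ((Scheme.Modules.pushforward f).obj F) := by
  have heq (r : R) : f ⁻¹ᵁ (⊤ ⊓ (Spec R).basicOpen (gs r)) = f ⁻¹ᵁ ⊤ ⊓ X.basicOpen (f.appTop (gs r)) := by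
    rw [← Scheme.preimage_basicOpen_top]; rfl
  refine isQuasicoherent_of_loc _ (fun r => ?_) (fun r => ?_)
  · intro t ht
    change Γ(F, f ⁻¹ᵁ ⊤) at t
    obtain ⟨n, hn⟩ := locInj_of_isCompact F (f.appTop (gs r)) (U := f ⁻¹ᵁ ⊤) CompactSpace.isCompact_univ t (by
      rw [← mres_mres F (f.preimage_mono (inf_le_left : ⊤ ⊓ (Spec R).basicOpen (gs r) ≤ ⊤)) (heq r).ge]
      exact (congrArg _ ht).trans (map_zero _))
    refine ⟨n, ?_⟩
    change f.app ⊤ (rs ⊤ (gs r) ^ n) • t = (0 : Γ(F, f ⁻¹ᵁ ⊤))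
    rw [map_pow, app_rs]
    exact hn
  · intro s
    change Γ(F, f ⁻¹ᵁ (⊤ ⊓ (Spec R).basicOpen (gs r))) at s
    obtain ⟨n, t, ht⟩ := locSurj_of_isCompact F (f.appTop (gs r)) (U := f ⁻¹ᵁ ⊤) CompactSpace.isCompact_univ
      (mres F (heq r).ge s)
    refine ⟨n, t, ?_⟩
    change mres F (f.preimage_mono (inf_le_left : ⊤ ⊓ (Spec R).basicOpen (gs r) ≤ ⊤)) t =
      f.app (⊤ ⊓ (Spec R).basicOpen (gs r)) (rs _ (gs r) ^ n) • s
    rw [map_pow, app_rs, ← mres_mres F inf_le_left (heq r).le, ht, mres_pow_smul, mres_mres, mres_id]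

/-- The direct image of a quasi-coherent module along a qcqs morphism is quasi-coherent. -/
theorem isQCoh_push {X Y : Scheme.{u}} (f : X ⟶ Y) [QuasiCompact f] [QuasiSeparated f]
    {F : X.Modules} (hF : Coh.IsQCoh F) : Coh.IsQCoh ((Scheme.Modules.pushforward f).obj F) := by
  refine isQCoh_of_fromSpec fun U hU => ?_
  have H₀ := isPullback_morphismRestrict f U
  have H : IsPullback (f ∣_ U ≫ hU.isoSpec.hom) (f ⁻¹ᵁ U).ι hU.fromSpec f :=
    H₀.of_iso (Iso.refl _) hU.isoSpec (Iso.refl _) (Iso.refl _) (by simp) (by simp) (by simp [← IsAffineOpen.isoSpec_inv_ι]) (by simp)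
  haveI : IsAffine U := hU
  haveI : CompactSpace (f ⁻¹ᵁ U : X.Opens) :=
    isCompact_iff_compactSpace.mp (QuasiCompact.isCompact_preimage _ U.isOpen hU.isCompact)
  haveI : QuasiSeparatedSpace (f ⁻¹ᵁ U : X.Opens) := quasiSeparatedSpace_of_quasiSeparated (f ∣_ U)
  haveI := isQCoh_restrict hF (f ⁻¹ᵁ U).ι
  exact isQCoh_of_isIso (pushRestrictIso H F).symm
    (isQuasicoherent_push_spec (f ∣_ U ≫ hU.isoSpec.hom) (F.restrict (f ⁻¹ᵁ U).ι))

end Groth.Agent.M1
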