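import Mathlib.AlgebraicGeometry.Modules.Tilde
import Mathlib.Algebra.Category.ModuleCat.ChangeOfRings
import Groth.Agent.Lib.ModM1.Coh
import Groth.Agent.Lib.Twist.Pullback

/-!
M1: pullback preserves quasi-coherence, finite type and finite presentation.
-/

universe u

open CategoryTheory Limits AlgebraicGeometry Opposite TopologicalSpace

namespace Groth.Agent.M1

variable {X Y : Scheme.{u}}

set_option backward.isDefEq.respectTransparency.types false in
instance pullback_preservesColimits (f : Y ⟶ X) :
    PreservesColimitsOfSize.{u, u} (Scheme.Modules.pullback f) :=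
  (Scheme.Modules.pullbackPushforwardAdjunction f).leftAdjoint_preservesColimits

set_option backward.isDefEq.respectTransparency false in
/-- Pullback of generating sections. -/
noncomputable def genPullback (f : Y ⟶ X) {M : X.Modules} (σ : SheafOfModules.GeneratingSections M) :
    SheafOfModules.GeneratingSections ((Scheme.Modules.pullback f).obj M) :=
  have : PreservesColimitsOfSize.{u, u} (Scheme.Modules.pullback f) := inferInstance
  σ.map (Scheme.Modules.pullback.{u} f) (Twist.pullbackUnitIso f).symm

set_option backward.isDefEq.respectTransparency false in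
/-- Pullback of a presentation. -/
noncomputable def presPullback (f : Y ⟶ X) {M : X.Modules} (P : SheafOfModules.Presentation M) :
    SheafOfModules.Presentation ((Scheme.Modules.pullback f).obj M) :=
  have : PreservesColimitsOfSize.{u, u} (Scheme.Modules.pullback f) := inferInstance
  P.map (Scheme.Modules.pullback.{u} f) (Twist.pullbackUnitIso f).symm

lemma finPres_presPullback (f : Y ⟶ X) {M : X.Modules} (P : SheafOfModules.Presentation M)
    (h : FinPres P) : FinPres (presPullback f P) := h

theorem isQCoh_pullback (f : Y ⟶ X) {M : X.Modules} (h : Coh.IsQCoh M) :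
    Coh.IsQCoh ((Scheme.Modules.pullback f).obj M) := by
  rw [isQCoh_iff_presentation] at h ⊢
  intro y
  obtain ⟨U, hU, ⟨P⟩⟩ := h (f y)
  exact ⟨f ⁻¹ᵁ U, hU, ⟨presIso (Twist.pullbackRestrictIso f M U).symm (presPullback (f ∣_ U) P)⟩⟩

theorem isFP_pullback (f : Y ⟶ X) {M : X.Modules} (h : CohB1.IsFP M) :
    CohB1.IsFP ((Scheme.Modules.pullback f).obj M) := by
  rw [isFP_iff_presentation] at h ⊢
  intro y
  obtain ⟨U, hU, P, hP⟩ := h (f y)
  exact ⟨f ⁻¹ᵁ U, hU, presIso (Twist.pullbackRestrictIso f M U).symm (presPullback (f ∣_ U) P),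
    finPres_presIso _ _ (finPres_presPullback _ _ hP)⟩

theorem isFT_pullback (f : Y ⟶ X) {M : X.Modules} (h : CohB1.IsFT M) :
    CohB1.IsFT ((Scheme.Modules.pullback f).obj M) := by
  rw [isFT_iff_generators] at h ⊢
  intro y
  obtain ⟨U, hU, σ, hσ⟩ := h (f y)
  exact ⟨f ⁻¹ᵁ U, hU, genEpi (genPullback (f ∣_ U) σ) (Twist.pullbackRestrictIso f M U).inv, hσ⟩

theorem isCoh_pullback (f : Y ⟶ X) {M : X.Modules} (h : Coh.IsCoh M) :
    Coh.IsCoh ((Scheme.Modules.pullback f).obj M) :=
  ⟨isQCoh_pullback f h.1, isFT_pullback f h.2⟩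

end Groth.Agent.M1
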