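import Mathlib.AlgebraicGeometry.Modules.Tilde
import Mathlib.Algebra.Category.ModuleCat.ChangeOfRings
import Mathlib.CategoryTheory.Adjunction.Unique
import Groth.Agent.Lib.ModM1.Pull

/-!
M1: pullback of `tilde` along a morphism of affine schemes is `tilde` of the extension of scalars.
-/

universe u

open CategoryTheory Limits AlgebraicGeometry Opposite TopologicalSpace

namespace Groth.Agent.M1

variable {R S : CommRingCat.{u}} (φ : R ⟶ S)

set_option backward.isDefEq.respectTransparency false in
/-- Global sections of a direct image along `Spec φ` are the restriction of scalars. -/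
noncomputable def pushΓIso :
    Scheme.Modules.pushforward (Spec.map φ) ⋙ moduleSpecΓFunctor ≅
      moduleSpecΓFunctor ⋙ ModuleCat.restrictScalars φ.hom :=
  (Functor.associator _ _ _).symm ≪≫
    Functor.isoWhiskerRight (pushforwardCompModulesSpecToSheafIso φ)
      (TopCat.Sheaf.forget _ _ ⋙ (evaluation _ _).obj (op ⊤))

set_option backward.isDefEq.respectTransparency false in
/-- Base change for `tilde`. -/
noncomputable def tildePullbackIso :
    tilde.functor R ⋙ Scheme.Modules.pullback (Spec.map φ) ≅
      ModuleCat.extendScalars φ.hom ⋙ tilde.functor S :=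
  (((tilde.adjunction (R := R)).comp
      (Scheme.Modules.pullbackPushforwardAdjunction (Spec.map φ))).ofNatIsoRight (pushΓIso φ)).leftAdjointUniq
    ((ModuleCat.extendRestrictScalarsAdj φ.hom).comp (tilde.adjunction (R := S)))

/-- Base change for `tilde`, objectwise. -/
noncomputable def tildePullbackObjIso (N : ModuleCat.{u} R) :
    (Scheme.Modules.pullback (Spec.map φ)).obj (tilde N) ≅
      tilde ((ModuleCat.extendScalars φ.hom).obj N) :=
  (tildePullbackIso φ).app N

end Groth.Agent.M1
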