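import Groth.Agent.Lib.ModM1.Coh
import Groth.Agent.Lib.ModM1.PullSpec
import Groth.Agent.Lib.ModM1.Stalk
import Groth.Prelude.Def_FlatMod2
import Mathlib.RingTheory.Spectrum.Prime.FreeLocus
import Mathlib.RingTheory.Localization.Free

/-!
M1: finitely presented modules with free stalks are finite locally free, and conversely.
-/

universe u

open CategoryTheory Limits AlgebraicGeometry Opposite TopologicalSpace TensorProduct

namespace Groth.Agent.M1

variable {X Y : Scheme.{u}}

/-- `freeMod` as a free module on a lifted index type. -/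
noncomputable def freeModFrIso (X : Scheme.{u}) (n : ℕ) :
    FlatMod.freeMod X n ≅ (fr (ULift.{u} (Fin n)) : X.Modules) :=
  Sigma.whiskerEquiv (f := fun _ : Fin n => Coh.structureModule X)
    (g := fun _ : ULift.{u} (Fin n) => Coh.structureModule X) Equiv.ulift.symm (fun _ => Iso.refl _)

/-- Free on a finite index type is `freeMod`. -/
theorem nonempty_fr_freeMod (X : Scheme.{u}) (I : Type u) [Finite I] :
    Nonempty ((fr I : X.Modules) ≅ FlatMod.freeMod X (Nat.card I)) := by
  obtain ⟨e⟩ : Nonempty (I ≃ ULift.{u} (Fin (Nat.card I))) := ⟨(Finite.equivFin I).trans Equiv.ulift.symm⟩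
  exact ⟨(Sigma.whiskerEquiv (f := fun _ : I => Coh.structureModule X)
    (g := fun _ : ULift.{u} (Fin (Nat.card I)) => Coh.structureModule X) e (fun _ => Iso.refl _)) ≪≫
      (freeModFrIso X _).symm⟩

/-- A module free on the image of an open immersion is free near each point of the image. -/
theorem exists_freeMod_of_openImmersion {M : X.Modules} {Z : Scheme.{u}} (j : Z ⟶ X)
    [IsOpenImmersion j] {I : Type u} [Finite I] (e : M.restrict j ≅ fr I) (z : Z) :
    ∃ (U : X.Opens) (n : ℕ), j z ∈ U ∧ Nonempty (M.restrict U.ι ≅ FlatMod.freeMod (U : Scheme.{u}) n) := by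
  obtain ⟨e'⟩ := nonempty_fr_freeMod (j.opensRange : Scheme.{u}) I
  have h : Set.range j.opensRange.ι ⊆ Set.range j := by rw [Scheme.Opens.range_ι]; rfl
  exact ⟨j.opensRange, Nat.card I, ⟨z, rfl⟩, ⟨(restrictLiftIso M j j.opensRange.ι h).symm ≪≫
    (Scheme.Modules.restrictFunctor (IsOpenImmersion.lift j j.opensRange.ι h)).mapIso e ≪≫
      (frRestrictIso (IsOpenImmersion.lift j j.opensRange.ι h) I).symm ≪≫ e'⟩⟩

set_option backward.isDefEq.respectTransparency false in
/-- A module on `Spec R` that becomes free after inverting `r` is free on `D(r)`. -/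
theorem exists_fr_away {R : CommRingCat.{u}} (N : ModuleCat.{u} R) [Module.Finite R N] (r : R)
    [Module.Free (Localization (.powers r)) (LocalizedModule.Away r N)] :
    ∃ (I : Type u) (_ : Finite I), Nonempty ((Scheme.Modules.pullback
      (Spec.map (CommRingCat.ofHom (algebraMap R (Localization (.powers r)))))).obj (tilde N) ≅ fr I) := by
  let S := CommRingCat.of (Localization (Submonoid.powers r))
  let φ : R ⟶ S := CommRingCat.ofHom (algebraMap R (Localization (.powers r)))
  haveI : Module.Finite (Localization (.powers r)) (LocalizedModule.Away r N) :=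
    Module.Finite.of_isLocalizedModule (.powers r) (LocalizedModule.mkLinearMap (.powers r) N)
  obtain ⟨I, hI, ⟨b⟩⟩ : ∃ (I : Type u) (_ : Finite I), Nonempty
      (Module.Basis I (Localization (.powers r)) (LocalizedModule.Away r N)) := by
    rcases subsingleton_or_nontrivial (Localization (Submonoid.powers r)) with h | h
    · have : Subsingleton (LocalizedModule.Away r N) := Module.subsingleton (Localization (.powers r)) _
      exact ⟨PEmpty, inferInstance, ⟨Module.Basis.empty _⟩⟩
    · exact ⟨_, Module.Finite.finite_basis (Module.Free.chooseBasis _ _), ⟨Module.Free.chooseBasis _ _⟩⟩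
  let e : Localization (Submonoid.powers r) ⊗[R] N ≃ₗ[Localization (Submonoid.powers r)]
      (I →₀ Localization (Submonoid.powers r)) :=
    (LocalizedModule.equivTensorProduct (.powers r) N).symm.trans b.repr
  let g : ((ModuleCat.restrictScalars φ.hom).obj (ModuleCat.of S S)) ≃ₗ[R]
      Localization (Submonoid.powers r) :=
    { toFun := fun x => x
      invFun := fun x => x
      left_inv := fun _ => rfl
      right_inv := fun _ => rfl
      map_add' := fun _ _ => rfl
      map_smul' := fun a x =>
        (Algebra.smul_def (A := Localization (Submonoid.powers r)) a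
          (show Localization (Submonoid.powers r) from x)).symm }
  let q := TensorProduct.congr g (LinearEquiv.refl R N)
  let d : ((ModuleCat.extendScalars φ.hom).obj N) ≅
      ModuleCat.of S (Localization (Submonoid.powers r) ⊗[R] N) :=
    LinearEquiv.toModuleIso
      (X₁ := (ModuleCat.extendScalars φ.hom).obj N)
      (X₂ := Localization (Submonoid.powers r) ⊗[R] N) (R := S)
      { toFun := fun x => q x
        invFun := fun x => q.symm x
        left_inv := fun x => q.symm_apply_apply x
        right_inv := fun x => q.apply_symm_apply x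
        map_add' := fun x y => q.map_add x y
        map_smul' := fun c x => by
          induction (show ((ModuleCat.restrictScalars φ.hom).obj (ModuleCat.of S S)) ⊗[R] N from x)
            using TensorProduct.induction_on with
          | zero => erw [smul_zero, q.map_zero, smul_zero]
          | tmul a m => rfl
          | add x y hx hy => erw [smul_add, q.map_add, hx, hy, q.map_add, smul_add] }
  let e' : ((ModuleCat.extendScalars φ.hom).obj N) ≅ ModuleCat.of S (I →₀ S) :=
    d ≪≫ LinearEquiv.toModuleIso (X₁ := Localization (Submonoid.powers r) ⊗[R] N) (R := S) e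
  exact ⟨I, hI, ⟨tildePullbackObjIso φ N ≪≫ (tilde.functor S).mapIso e' ≪≫ frTildeIso _⟩⟩

/-- A finitely presented module with free stalk at `x` is free of finite rank near `x`. -/
theorem exists_freeMod_of_free_stalk {M : X.Modules} (hFP : CohB1.IsFP M) (x : X)
    [hx : Module.Free (X.presheaf.stalk x) (M.presheaf.stalk x)] :
    ∃ (U : X.Opens) (n : ℕ), x ∈ U ∧ Nonempty (M.restrict U.ι ≅ FlatMod.freeMod (U : Scheme.{u}) n) := by
  obtain ⟨U, hU, hxU, -⟩ := exists_isAffineOpen_mem_and_subset (x := x) (U := ⊤) trivial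
  haveI := isFP_isQCoh hFP
  haveI := finitePresentation_sections hFP hU
  let p := hU.primeIdealOf ⟨x, hxU⟩
  letI := stalkModule M hxU
  haveI := isLocalizedModule_germ M hU hxU
  let := TopCat.Presheaf.algebra_section_stalk X.presheaf (⟨x, hxU⟩ : U)
  haveI := hU.isLocalization_stalk ⟨x, hxU⟩
  haveI : IsScalarTower Γ(X, U) (X.presheaf.stalk x) (M.presheaf.stalk x) :=
    IsScalarTower.of_algebraMap_smul fun _ _ => rfl
  have hp : p ∈ Module.freeLocus Γ(X, U) Γ(M, U) :=
    (Module.mem_freeLocus_of_isLocalization p (X.presheaf.stalk x) (M.presheaf.stalk x)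
      (germₗ M hxU)).mpr hx
  haveI := isQCoh_fromSpec (isFP_isQCoh hFP) hU
  let N := moduleSpecΓFunctor.obj (M.restrict hU.fromSpec)
  haveI : Module.FinitePresentation Γ(X, U) N :=
    finitePresentation_of_linearEquiv (affineSecEquiv M hU).symm
  let eN : N ≃ₗ[Γ(X, U)] Γ(M, U) := affineSecEquiv M hU
  have hp' : p ∈ Module.freeLocus Γ(X, U) N :=
    (Set.ext_iff.mp (Module.freeLocus_congr eN) p).mpr hp
  haveI : Module.Free (Localization.AtPrime p.asIdeal) (LocalizedModule p.asIdeal.primeCompl N) := hp'
  obtain ⟨r, hr, hfree, -⟩ := Module.FinitePresentation.exists_free_localizedModule_powers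
    p.asIdeal.primeCompl (LocalizedModule.mkLinearMap p.asIdeal.primeCompl N)
    (Localization.AtPrime p.asIdeal)
  obtain ⟨I, hI, ⟨e⟩⟩ := exists_fr_away N r
  let j := Spec.map (CommRingCat.ofHom (algebraMap Γ(X, U) (Localization (.powers r))))
  haveI : IsOpenImmersion j := IsOpenImmersion.of_isLocalization r
  have hmem : p ∈ Set.range j := by
    change p ∈ Set.range (PrimeSpectrum.comap (algebraMap Γ(X, U) (Localization (.powers r))))
    rw [PrimeSpectrum.localization_away_comap_range (S := Localization.Away r) r]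
    exact hr
  obtain ⟨z, hz⟩ := hmem
  let f : M.restrict hU.fromSpec ≅ tilde N :=
    (@asIso _ _ _ _ (M.restrict hU.fromSpec).fromTildeΓ
      (Scheme.Modules.isIso_fromTildeΓ_of_isQuasicoherent (R := Γ(X, U)) _)).symm
  obtain ⟨V, n, hV, hn⟩ := exists_freeMod_of_openImmersion (j ≫ hU.fromSpec)
    ((restrictRestrictIso M hU.fromSpec j (j ≫ hU.fromSpec) rfl).symm ≪≫
      (Scheme.Modules.restrictFunctor j).mapIso f ≪≫
      (Scheme.Modules.restrictFunctorIsoPullback j).app (tilde N) ≪≫ e) z
  refine ⟨V, n, ?_, hn⟩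
  rwa [Scheme.Hom.comp_apply, hz, IsAffineOpen.fromSpec_primeIdealOf] at hV

/-- Finite free modules are finitely presented. -/
theorem isFP_fr (X : Scheme.{u}) (I : Type u) [Finite I] : CohB1.IsFP (fr I : X.Modules) :=
  isFP_of_fromSpec fun U hU => by
    haveI : Module.FinitePresentation Γ(X, U) (I →₀ Γ(X, U)) := Module.finitePresentation_of_projective _ _
    exact isFP_of_isIso ((frTildeIso I) ≪≫ frRestrictIso hU.fromSpec I)
      (isFP_tilde (ModuleCat.of Γ(X, U) (I →₀ Γ(X, U))))

/-- Finite locally free modules are finitely presented. -/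
theorem isFP_of_isFinLocFree {M : X.Modules} (h : FlatMod.IsFinLocFree M) : CohB1.IsFP M := by
  choose U n hU e using h
  exact isFP_of_openImmersion_cover (fun x => (U x).ι)
    (fun x => ⟨x, by rw [Scheme.Opens.range_ι]; exact hU x⟩)
    fun x => isFP_of_isIso ((e x).some ≪≫ freeModFrIso _ _).symm (isFP_fr _ _)

/-- The stalk at a point of an open on which the module is free is free. -/
theorem free_stalk_of_freeMod {M : X.Modules} {U : X.Opens} {n : ℕ} (hM : Coh.IsQCoh M)
    (e : M.restrict U.ι ≅ FlatMod.freeMod (U : Scheme.{u}) n) {x : X} (hx : x ∈ U) :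
    Module.Free (X.presheaf.stalk x) (M.presheaf.stalk x) := by
  haveI := hM
  obtain ⟨W, hW, hxW, hWU⟩ := exists_isAffineOpen_mem_and_subset (x := x) (U := U) hx
  have h : Set.range hW.fromSpec ⊆ Set.range U.ι := by
    rw [IsAffineOpen.range_fromSpec, Scheme.Opens.range_ι]; exact hWU
  let l := IsOpenImmersion.lift U.ι hW.fromSpec h
  let e' : M.restrict hW.fromSpec ≅ (tilde.functor Γ(X, W)).obj
      (ModuleCat.of Γ(X, W) (ULift.{u} (Fin n) →₀ Γ(X, W))) :=
    (restrictLiftIso M U.ι hW.fromSpec h).symm ≪≫
    (Scheme.Modules.restrictFunctor l).mapIso (e ≪≫ freeModFrIso _ _) ≪≫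
      (frRestrictIso l _).symm ≪≫ (frTildeIso _).symm
  haveI : Module.Free Γ(X, W) Γ(M, W) := Module.Free.of_equiv
    (M := (ULift.{u} (Fin n) →₀ Γ(X, W)))
    (((tilde.isoTop _ ≪≫ moduleSpecΓFunctor.mapIso e'.symm).toLinearEquiv).trans (affineSecEquiv M hW))
  letI := stalkModule M hxW
  haveI := isLocalizedModule_germ M hW hxW
  let := TopCat.Presheaf.algebra_section_stalk X.presheaf (⟨x, hxW⟩ : W)
  haveI := hW.isLocalization_stalk ⟨x, hxW⟩
  haveI : IsScalarTower Γ(X, W) (X.presheaf.stalk x) (M.presheaf.stalk x) :=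
    IsScalarTower.of_algebraMap_smul fun _ _ => rfl
  exact Module.Free.of_basis ((Module.Free.chooseBasis Γ(X, W) Γ(M, W)).ofIsLocalizedModule
    (X.presheaf.stalk x) (hW.primeIdealOf ⟨x, hxW⟩).asIdeal.primeCompl (germₗ M hxW))

/-- Finitely presented with free stalks is the same as finite locally free. -/
theorem isFinLocFree_iff (M : X.Modules) : FlatMod.IsFinLocFree M ↔
    CohB1.IsFP M ∧ ∀ x : X, Module.Free (X.presheaf.stalk x) (M.presheaf.stalk x) := by
  refine ⟨fun h => ⟨isFP_of_isFinLocFree h, fun x => ?_⟩, fun h x => ?_⟩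
  · obtain ⟨U, n, hxU, ⟨e⟩⟩ := h x
    exact free_stalk_of_freeMod (isFP_isQCoh (isFP_of_isFinLocFree h)) e hxU
  · haveI := h.2 x
    exact exists_freeMod_of_free_stalk h.1 x

/-- For finitely presented modules, flat at a point is free at that point. -/
theorem free_stalk_of_flat {M : X.Modules} (hFP : CohB1.IsFP M) (x : X) (h : FlatMod.IsFlatAt M x) :
    Module.Free (X.presheaf.stalk x) (M.presheaf.stalk x) := by
  have := finite_stalk (isFP_isQCoh hFP) (isFP_isFT hFP) x
  have : Module.Flat (X.presheaf.stalk x) (M.presheaf.stalk x) := h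
  exact Module.free_of_flat_of_isLocalRing

end Groth.Agent.M1
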