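import Groth.Agent.Lib.ModM1.Stalk
import Mathlib.AlgebraicGeometry.IdealSheaf.Basic
import Mathlib.RingTheory.Support

/-!
M1: annihilator ideal sheaf of a finite type quasi-coherent module.
-/

universe u

open CategoryTheory Limits AlgebraicGeometry Opposite TopologicalSpace

namespace Groth.Agent.M1

variable {X : Scheme.{u}} {M : X.Modules}

/-- An element killing the sections over an affine open kills them over basic opens. -/
theorem annihilator_map_le (hM : Coh.IsQCoh M) {U : X.Opens} (hU : IsAffineOpen U) (g : Γ(X, U)) :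
    (Module.annihilator Γ(X, U) Γ(M, U)).map (ores (X.basicOpen_le g)).hom ≤
      Module.annihilator Γ(X, X.basicOpen g) Γ(M, X.basicOpen g) := by
  haveI := hM
  rw [Ideal.map_le_iff_le_comap]
  intro a ha
  rw [Ideal.mem_comap, Module.mem_annihilator]
  intro t
  obtain ⟨k, t₀, ht⟩ := exists_pow_smul_eq_res_affine M hU g t
  have h0 := congrArg (mres M (X.basicOpen_le g)) (Module.mem_annihilator.mp ha t₀)
  rw [mres_smul, map_zero, ht, smul_comm] at h0
  have hu : IsUnit (ores (X.basicOpen_le g) g) := RingedSpace.isUnit_res_basicOpen X.toRingedSpace g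
  exact (hu.pow k).smul_eq_zero.mp h0

/-- For finitely many generators, the annihilator commutes with localisation. -/
theorem annihilator_map_eq (hM : Coh.IsQCoh M) (hFT : CohB1.IsFT M) {U : X.Opens} (hU : IsAffineOpen U)
    (g : Γ(X, U)) :
    (Module.annihilator Γ(X, U) Γ(M, U)).map (ores (X.basicOpen_le g)).hom =
      Module.annihilator Γ(X, X.basicOpen g) Γ(M, X.basicOpen g) := by
  haveI := hM
  refine le_antisymm (annihilator_map_le hM hU g) fun b hb => ?_
  letI : Algebra Γ(X, U) Γ(X, X.basicOpen g) := (ores (X.basicOpen_le g)).hom.toAlgebra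
  haveI : IsLocalization.Away g Γ(X, X.basicOpen g) := hU.isLocalization_basicOpen g
  obtain ⟨⟨a, ⟨_, k, rfl⟩⟩, hab⟩ := IsLocalization.surj (Submonoid.powers g) b
  have hab' : b * ores (X.basicOpen_le g) (g ^ k) = ores (X.basicOpen_le g) a := hab
  obtain ⟨s, hs⟩ := (finite_sections hM hFT hU).fg_top
  have hm (m : Γ(M, U)) : ∃ n : ℕ, g ^ n • a • m = 0 :=
    exists_pow_smul_eq_zero_affine M hU g (a • m) (by
      rw [mres_smul, ← hab', mul_comm b, mul_smul, Module.mem_annihilator.mp hb, smul_zero])
  choose n hn using hm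
  let N := s.sup n
  have ha : g ^ N * a ∈ Module.annihilator Γ(X, U) Γ(M, U) := by
    rw [← Submodule.annihilator_top, ← hs, Submodule.mem_annihilator_span]
    rintro ⟨m, hm⟩
    obtain ⟨d, hd⟩ := Nat.exists_eq_add_of_le (Finset.le_sup (f := n) (Finset.mem_coe.mp hm))
    change (g ^ N * a) • m = 0
    rw [show N = n m + d from hd, add_comm, pow_add, mul_assoc, mul_smul, mul_smul, hn, smul_zero]
  have hu : IsUnit (ores (X.basicOpen_le g) (g ^ (N + k))) := by
    have hu : IsUnit (ores (X.basicOpen_le g) g) := RingedSpace.isUnit_res_basicOpen X.toRingedSpace g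
    rw [map_pow]; exact hu.pow _
  have hmem := Ideal.mem_map_of_mem (ores (X.basicOpen_le g)).hom ha
  rw [map_mul, ← hab', mul_comm b, ← mul_assoc, ← map_mul, ← pow_add] at hmem
  exact (Ideal.unit_mul_mem_iff_mem _ hu).mp hmem

variable (hM : Coh.IsQCoh M) (hFT : CohB1.IsFT M)

/-- The annihilator ideal sheaf. -/
noncomputable def annSheaf : X.IdealSheafData where
  ideal U := Module.annihilator Γ(X, U.1) Γ(M, U.1)
  map_ideal_basicOpen U f := annihilator_map_eq hM hFT U.2 f

theorem annSheaf_ideal (U : X.affineOpens) :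
    (annSheaf hM hFT).ideal U = Module.annihilator Γ(X, U.1) Γ(M, U.1) := rfl

/-- The support of a finite type module is the closed set cut out by its annihilator. -/
theorem support_annSheaf : ((annSheaf hM hFT).support : Set X) = CohB1.support M := by
  ext x
  obtain ⟨U, hU, hxU, -⟩ := exists_isAffineOpen_mem_and_subset (x := x) (U := ⊤) trivial
  haveI := hM
  haveI := finite_sections hM hFT hU
  letI := stalkModule M hxU
  haveI := isLocalizedModule_germ M hU hxU
  have e := (IsLocalizedModule.iso (hU.primeIdealOf ⟨x, hxU⟩).asIdeal.primeCompl (germₗ M hxU)).toEquiv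
  have h1 : hU.primeIdealOf ⟨x, hxU⟩ ∈ Module.support Γ(X, U) Γ(M, U) ↔ x ∈ CohB1.support M := by
    rw [Module.mem_support_iff, ← not_subsingleton_iff_nontrivial]
    exact not_congr ⟨fun h => @Equiv.subsingleton _ _ e.symm h, fun h => @Equiv.subsingleton _ _ e h⟩
  rw [← h1, Module.support_eq_zeroLocus, SetLike.mem_coe,
    Scheme.IdealSheafData.mem_support_iff_of_mem (U := ⟨U, hU⟩) hxU, Scheme.mem_zeroLocus_iff,
    PrimeSpectrum.mem_zeroLocus]
  refine forall₂_congr fun f hf => ?_
  rw [X.mem_basicOpen f x hxU, isUnit_germ_iff hU hxU]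
  exact not_not

end Groth.Agent.M1
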