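import Groth.Agent.Lib.ModM1.Extend
import Mathlib.CategoryTheory.Limits.Shapes.Pullback.IsPullback.Basic
import Mathlib.CategoryTheory.Abelian.Exact
import Mathlib.Algebra.Homology.ShortComplex.ExactFunctor

/-!
M1: fibre products of modules, and the restriction of adjunction units.
-/

universe u

open CategoryTheory Limits AlgebraicGeometry Opposite TopologicalSpace

set_option backward.isDefEq.respectTransparency false

namespace Groth.Agent.M1

variable {X Y : Scheme.{u}}

/-- Restricting the unit of restriction gives an isomorphism. -/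
theorem isIso_restrict_unit (j : Y ⟶ X) [IsOpenImmersion j] (M : X.Modules) :
    IsIso ((Scheme.Modules.restrictFunctor j).map ((Scheme.Modules.restrictAdjunction j).unit.app M)) := by
  have h := (Scheme.Modules.restrictAdjunction j).left_triangle_components M
  rw [← IsIso.eq_comp_inv] at h
  rw [h]
  infer_instance

theorem isQCoh_biprod {M N : X.Modules} (hM : Coh.IsQCoh M) (hN : Coh.IsQCoh N) : Coh.IsQCoh (M ⊞ N) :=
  isQCoh_of_shortExact (S := ShortComplex.mk (biprod.inl : M ⟶ M ⊞ N) biprod.snd biprod.inl_snd)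
    (ShortComplex.Splitting.ofHasBinaryBiproduct M N).shortExact hM hN

theorem isCoh_biprod [IsLocallyNoetherian X] {M N : X.Modules} (hM : Coh.IsCoh M) (hN : Coh.IsCoh N) :
    Coh.IsCoh (M ⊞ N) := by
  refine ⟨isQCoh_biprod hM.1 hN.1, isFT_of_finite_sections (isQCoh_biprod hM.1 hN.1) fun U hU => ?_⟩
  haveI : IsNoetherianRing Γ(X, U) := IsLocallyNoetherian.component_noetherian ⟨U, hU⟩
  haveI := finite_sections hM.1 hM.2 hU
  haveI := finite_sections hN.1 hN.2 hU
  let f : Γ(M ⊞ N, U) →ₗ[Γ(X, U)] Γ(M, U) × Γ(N, U) :=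
    { toFun := fun s => ((biprod.fst : M ⊞ N ⟶ M).app U s, (biprod.snd : M ⊞ N ⟶ N).app U s)
      map_add' := fun a b => Prod.ext (map_add _ a b) (map_add _ a b)
      map_smul' := fun r a => Prod.ext (Scheme.Modules.Hom.app_smul _ r a) (Scheme.Modules.Hom.app_smul _ r a) }
  refine Module.Finite.of_injective f ?_
  rw [injective_iff_map_eq_zero]
  intro a ha
  have h1 : (biprod.fst : M ⊞ N ⟶ M).app U a = 0 := congrArg Prod.fst ha
  have h2 : (biprod.snd : M ⊞ N ⟶ N).app U a = 0 := congrArg Prod.snd ha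
  obtain ⟨b, hb⟩ := sections_exact (S := ShortComplex.mk (biprod.inl : M ⟶ M ⊞ N) biprod.snd biprod.inl_snd)
    (ShortComplex.Splitting.ofHasBinaryBiproduct M N).exact U a h2
  have h3 : (biprod.fst : M ⊞ N ⟶ M).app U ((biprod.inl : M ⟶ M ⊞ N).app U b) = b := by
    rw [← comp_app_apply, biprod.inl_fst]; rfl
  have hb' : (biprod.inl : M ⟶ M ⊞ N).app U b = a := hb
  rw [hb', h1] at h3
  rw [← hb', ← h3, map_zero]

/-- A fibre product of quasi-coherent modules is quasi-coherent. -/
theorem isQCoh_fibreProd {A B C : X.Modules} (hA : Coh.IsQCoh A) (hB : Coh.IsQCoh B) (hC : Coh.IsQCoh C)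
    (f : A ⟶ C) (g : B ⟶ C) : Coh.IsQCoh (pullback f g) := by
  let φ : A ⊞ B ⟶ C := biprod.desc f (-g)
  have w₁ : (kernel.ι φ ≫ biprod.fst) ≫ f = (kernel.ι φ ≫ biprod.snd) ≫ g := by
    have h : kernel.ι φ ≫ biprod.desc f (-g) = 0 := kernel.condition φ
    rw [biprod.desc_eq, Preadditive.comp_add, Preadditive.comp_neg, Preadditive.comp_neg,
      ← Category.assoc, ← Category.assoc, add_neg_eq_zero] at h
    exact h
  have w₂ : biprod.lift (pullback.fst f g) (pullback.snd f g) ≫ φ = 0 := by
    rw [biprod.lift_desc, Preadditive.comp_neg, pullback.condition, add_neg_cancel]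
  let e : kernel φ ≅ pullback f g :=
    { hom := pullback.lift _ _ w₁
      inv := kernel.lift _ _ w₂
      hom_inv_id := by
        rw [← cancel_mono (kernel.ι φ), Category.assoc, kernel.lift_ι, Category.id_comp]
        apply biprod.hom_ext <;> simp
      inv_hom_id := by
        apply pullback.hom_ext
        · rw [Category.assoc, pullback.lift_fst, ← Category.assoc, kernel.lift_ι, biprod.lift_fst,
            Category.id_comp]
        · rw [Category.assoc, pullback.lift_snd, ← Category.assoc, kernel.lift_ι, biprod.lift_snd,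
            Category.id_comp] }
  exact isQCoh_of_isIso e (isQCoh_kernel (isQCoh_biprod hA hB) hC φ)

theorem isCoh_fibreProd [IsLocallyNoetherian X] {A B C : X.Modules} (hA : Coh.IsCoh A) (hB : Coh.IsCoh B)
    (hC : Coh.IsQCoh C) (f : A ⟶ C) (g : B ⟶ C) : Coh.IsCoh (pullback f g) := by
  haveI : Mono (biprod.lift (pullback.fst f g) (pullback.snd f g)) := ⟨fun a b h => by
    apply pullback.hom_ext
    · simpa using congrArg (· ≫ biprod.fst) h
    · simpa using congrArg (· ≫ biprod.snd) h⟩
  exact isCoh_of_mono (biprod.lift (pullback.fst f g) (pullback.snd f g)) (isCoh_biprod hA hB)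
    (isQCoh_fibreProd hA.1 hB.1 hC f g)

theorem isIso_restrict_fst {A B C : X.Modules} (f : A ⟶ C) (g : B ⟶ C) (j : Y ⟶ X) [IsOpenImmersion j]
    (h : IsIso ((Scheme.Modules.restrictFunctor j).map g)) :
    IsIso ((Scheme.Modules.restrictFunctor j).map (pullback.fst f g)) :=
  ((IsPullback.of_hasPullback f g).map (Scheme.Modules.restrictFunctor j)).isIso_fst_of_isIso h

theorem isIso_restrict_snd {A B C : X.Modules} (f : A ⟶ C) (g : B ⟶ C) (j : Y ⟶ X) [IsOpenImmersion j]
    (h : IsIso ((Scheme.Modules.restrictFunctor j).map f)) :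
    IsIso ((Scheme.Modules.restrictFunctor j).map (pullback.snd f g)) :=
  ((IsPullback.of_hasPullback f g).map (Scheme.Modules.restrictFunctor j)).isIso_snd_of_isIso h

end Groth.Agent.M1
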