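import Groth.Agent.Lib.ModM1.Coh
import Groth.Agent.Lib.ModM1.Pull
import Groth.Agent.Lib.ModM1.PullSpec
import Groth.Agent.Lib.ModM1.LocFree
import Groth.Agent.Lib.TensorMod.Invertible
import Mathlib.AlgebraicGeometry.Morphisms.Flat
import Mathlib.RingTheory.Finiteness.Descent

/-!
M1: fpqc descent of finiteness conditions on quasi-coherent modules.
-/

universe u

open CategoryTheory Limits AlgebraicGeometry Opposite TopologicalSpace TensorProduct

namespace Groth.Agent.M1

variable {X Y : Scheme.{u}}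

/-- An affine chart of `f` faithfully flat over a given affine open. -/
theorem exists_ff_chart (f : Y ⟶ X) [Flat f] [Surjective f] [QuasiCompact f] {V : X.Opens}
    (hV : IsAffineOpen V) :
    ∃ (S : CommRingCat.{u}) (φ : Γ(X, V) ⟶ S) (j : Spec S ⟶ Y),
      φ.hom.FaithfullyFlat ∧ j ≫ f = Spec.map φ ≫ hV.fromSpec := by
  obtain ⟨s, hs, hcov⟩ := exists_finite_affine_iSup (U := f ⁻¹ᵁ V)
    (QuasiCompact.isCompact_preimage (f := f) V V.2 hV.isCompact)
  haveI : Finite s := hs.to_subtype
  let ι : Type u := s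
  let W : ι → Scheme.{u} := fun k => (k.1.1 : Scheme.{u})
  haveI (k : ι) : IsAffine (W k) := k.1.2
  have hle (k : ι) : Set.range ((k.1.1).ι ≫ f) ⊆ Set.range hV.fromSpec := by
    rw [IsAffineOpen.range_fromSpec]
    rintro _ ⟨z, rfl⟩
    have : (k.1.1.ι z : Y) ∈ ⨆ i : s, (i.1 : Y.Opens) := Opens.mem_iSup.mpr ⟨k, z.2⟩
    rw [← hcov] at this
    exact this
  let g : (∐ W) ⟶ Spec Γ(X, V) := Sigma.desc fun k => IsOpenImmersion.lift hV.fromSpec _ (hle k)
  let i : (∐ W) ⟶ Y := Sigma.desc fun k => k.1.1.ι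
  have hgi : i ≫ f = g ≫ hV.fromSpec := by
    refine Sigma.hom_ext _ _ fun k => ?_
    simp only [i, g, ← Category.assoc, colimit.ι_desc, Cofan.mk_ι_app]
    rw [IsOpenImmersion.lift_fac]
  haveI : Flat i := IsZariskiLocalAtSource.sigmaDesc (P := @Flat) fun k => inferInstance
  haveI : Flat g := by
    have h1 : Flat (g ≫ hV.fromSpec) := by rw [← hgi]; infer_instance
    exact MorphismProperty.of_postcomp (W := @Flat) (W' := @IsOpenImmersion) g hV.fromSpec inferInstance h1
  haveI : Surjective g := by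
    refine ⟨fun p => ?_⟩
    obtain ⟨y, hy⟩ := f.surjective (hV.fromSpec p)
    have hyV : y ∈ ⨆ i : s, (i.1 : Y.Opens) := by
      rw [← hcov]
      change f y ∈ (V : Set X)
      rw [hy, ← IsAffineOpen.range_fromSpec hV]
      exact ⟨p, rfl⟩
    obtain ⟨⟨k, hk⟩, hyk⟩ := Opens.mem_iSup.mp hyV
    refine ⟨(Sigma.ι W ⟨k, hk⟩) ⟨y, hyk⟩, hV.fromSpec.isOpenEmbedding.injective ?_⟩
    rw [← Scheme.Hom.comp_apply, ← hgi, Scheme.Hom.comp_apply, ← Scheme.Hom.comp_apply (Sigma.ι W _) i]
    simp only [i, colimit.ι_desc, Cofan.mk_ι_app]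
    exact hy
  let T := ∐ W
  refine ⟨Γ(T, ⊤), Spec.preimage (T.isoSpec.inv ≫ g), T.isoSpec.inv ≫ i, ?_, ?_⟩
  · refine (flat_and_surjective_SpecMap_iff _).mp ⟨?_, ?_⟩ <;> rw [Spec.map_preimage] <;> infer_instance
  · rw [Spec.map_preimage, Category.assoc, Category.assoc, hgi]

/-- A quasi-coherent module on an affine open, pulled back to a chart, is the extension of scalars
of its sections. -/
theorem nonempty_chart_iso {M : X.Modules} (hM : Coh.IsQCoh M) (f : Y ⟶ X) {V : X.Opens}
    (hV : IsAffineOpen V) {S : CommRingCat.{u}} (φ : Γ(X, V) ⟶ S) (j : Spec S ⟶ Y)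
    (hj : j ≫ f = Spec.map φ ≫ hV.fromSpec) :
    Nonempty ((Scheme.Modules.pullback j).obj ((Scheme.Modules.pullback f).obj M) ≅
      tilde ((ModuleCat.extendScalars φ.hom).obj (moduleSpecΓFunctor.obj (M.restrict hV.fromSpec)))) := by
  haveI := isQCoh_fromSpec hM hV
  let N := moduleSpecΓFunctor.obj (M.restrict hV.fromSpec)
  let e : (Scheme.Modules.pullback hV.fromSpec).obj M ≅ tilde N :=
    ((Scheme.Modules.restrictFunctorIsoPullback hV.fromSpec).app M).symm ≪≫
      (@asIso _ _ _ _ (M.restrict hV.fromSpec).fromTildeΓ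
        (Scheme.Modules.isIso_fromTildeΓ_of_isQuasicoherent (R := Γ(X, V)) _)).symm
  exact ⟨(Scheme.Modules.pullbackComp j f).app M ≪≫ (Scheme.Modules.pullbackCongr hj).app M ≪≫
    ((Scheme.Modules.pullbackComp (Spec.map φ) hV.fromSpec).app M).symm ≪≫
    (Scheme.Modules.pullback (Spec.map φ)).mapIso e ≪≫ tildePullbackObjIso φ N⟩

theorem finite_of_isFT_tilde {R : CommRingCat.{u}} (E : ModuleCat.{u} R) (h : CohB1.IsFT (tilde E)) :
    Module.Finite R E := by
  have := finite_sections_spec (tilde E) inferInstance h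
  exact @Module.Finite.equiv R (moduleSpecΓFunctor.obj (tilde E)) E _ _ _ _ _ this
    (tilde.isoTop E).symm.toLinearEquiv

theorem finitePresentation_of_isFP_tilde {R : CommRingCat.{u}} (E : ModuleCat.{u} R)
    (h : CohB1.IsFP (tilde E)) : Module.FinitePresentation R E := by
  have := finitePresentation_sections_spec (tilde E) h
  exact @finitePresentation_of_linearEquiv R (moduleSpecΓFunctor.obj (tilde E)) E _ _ _ _ _
    (tilde.isoTop E).symm.toLinearEquiv this

/-- Extension of scalars as a tensor product. -/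
theorem finite_of_extendScalars {R S : CommRingCat.{u}} (φ : R ⟶ S) (hφ : φ.hom.FaithfullyFlat)
    (N : ModuleCat.{u} R) (h : Module.Finite S ((ModuleCat.extendScalars φ.hom).obj N)) :
    Module.Finite R N := by
  letI : Algebra R S := φ.hom.toAlgebra
  haveI : Module.FaithfullyFlat R S := hφ
  haveI : Module.Finite S (S ⊗[R] N) := h
  exact Module.Finite.of_finite_tensorProduct_of_faithfullyFlat S

theorem finitePresentation_of_extendScalars {R S : CommRingCat.{u}} (φ : R ⟶ S)
    (hφ : φ.hom.FaithfullyFlat) (N : ModuleCat.{u} R)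
    (h : Module.FinitePresentation S ((ModuleCat.extendScalars φ.hom).obj N)) :
    Module.FinitePresentation R N := by
  haveI := finite_of_extendScalars φ hφ N inferInstance
  letI : Algebra R S := φ.hom.toAlgebra
  haveI : Module.FaithfullyFlat R S := hφ
  haveI : Module.FinitePresentation S (S ⊗[R] N) := h
  obtain ⟨n, p, hp⟩ := Module.Finite.exists_fin' R N
  refine Module.finitePresentation_of_surjective p hp ?_
  have hpS : Function.Surjective (AlgebraTensorModule.lTensor S S p) := LinearMap.lTensor_surjective S hp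
  have hK := Module.FinitePresentation.fg_ker (AlgebraTensorModule.lTensor S S p) hpS
  let a : S ⊗[R] LinearMap.ker p →ₗ[S] S ⊗[R] (Fin n → R) :=
    AlgebraTensorModule.lTensor S S (LinearMap.ker p).subtype
  have ha : Function.Injective a :=
    Module.Flat.lTensor_preserves_injective_linearMap (M := S) _ (LinearMap.ker p).injective_subtype
  have hr : LinearMap.range a = LinearMap.ker (AlgebraTensorModule.lTensor S S p) := by
    ext z
    exact (lTensor_exact S (LinearMap.exact_subtype_ker_map p) hp z).symm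
  haveI : Module.Finite S (LinearMap.ker (AlgebraTensorModule.lTensor S S p)) := Module.Finite.iff_fg.mpr hK
  haveI : Module.Finite S (LinearMap.range a) := by rw [hr]; infer_instance
  haveI : Module.Finite S (S ⊗[R] LinearMap.ker p) :=
    Module.Finite.equiv (LinearEquiv.ofInjective a ha).symm
  haveI : Module.Finite R (LinearMap.ker p) := Module.Finite.of_finite_tensorProduct_of_faithfullyFlat S
  exact Module.Finite.iff_fg.mp inferInstance

/-- A finite locally free `tilde` is a flat module. -/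
theorem flat_of_isFinLocFree_tilde {R : CommRingCat.{u}} (E : ModuleCat.{u} R)
    (h : FlatMod.IsFinLocFree (tilde E)) : Module.Flat R E := by
  have hfree := ((isFinLocFree_iff (tilde E)).mp h).2
  let g (x : PrimeSpectrum R) : E →ₗ[R] (tilde E).presheaf.stalk x := (tilde.toStalk E x).hom
  haveI hg (x : PrimeSpectrum R) : IsLocalizedModule x.asIdeal.primeCompl (g x) :=
    inferInstanceAs (IsLocalizedModule x.asIdeal.primeCompl (tilde.toStalk E x).hom)
  refine @Module.flat_of_isLocalized_maximal R R _ _ _ E _ _ _ _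
    (fun P hP => (tilde E).presheaf.stalk (⟨P, hP.isPrime⟩ : PrimeSpectrum R)) _ _ _
    (fun P _ => inferInstance) (fun P hP => g ⟨P, hP.isPrime⟩)
    (fun P hP => hg ⟨P, hP.isPrime⟩) (fun P hP => ?_)
  let x : PrimeSpectrum R := ⟨P, hP.isPrime⟩
  letI : Algebra R ((Spec R).presheaf.stalk x) := StructureSheaf.stalkAlgebra R x
  haveI : IsLocalization.AtPrime ((Spec R).presheaf.stalk x) x.asIdeal :=
    StructureSheaf.IsLocalization.to_stalk R x
  haveI : IsScalarTower R ((Spec R).presheaf.stalk x) ((tilde E).presheaf.stalk x) :=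
    IsScalarTower.of_algebraMap_smul fun _ _ => rfl
  haveI := hfree x
  exact (Module.flat_iff_of_isLocalization ((Spec R).presheaf.stalk x) x.asIdeal.primeCompl
    ((tilde E).presheaf.stalk x)).mp inferInstance

variable (f : Y ⟶ X) [Flat f] [Surjective f] [QuasiCompact f] {M : X.Modules} (hM : Coh.IsQCoh M)
include f hM

/-- Finite type descends along fpqc morphisms. -/
theorem isFT_of_pullback_fpqc (h : CohB1.IsFT ((Scheme.Modules.pullback f).obj M)) : CohB1.IsFT M := by
  refine isFT_of_finite_sections hM fun V hV => ?_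
  obtain ⟨S, φ, j, hφ, hj⟩ := exists_ff_chart f hV
  obtain ⟨e⟩ := nonempty_chart_iso hM f hV φ j hj
  haveI : Module.Finite Γ(X, V) Γ(M.restrict hV.fromSpec, ⊤) :=
    finite_of_extendScalars φ hφ (moduleSpecΓFunctor.obj (M.restrict hV.fromSpec))
      (finite_of_isFT_tilde _ (isFT_of_isIso e (isFT_pullback j h)))
  exact Module.Finite.equiv (affineSecEquiv M hV)

/-- Finite presentation descends along fpqc morphisms. -/
theorem isFP_of_pullback_fpqc (h : CohB1.IsFP ((Scheme.Modules.pullback f).obj M)) : CohB1.IsFP M := by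
  refine isFP_of_finitePresentation_sections hM fun V hV => ?_
  obtain ⟨S, φ, j, hφ, hj⟩ := exists_ff_chart f hV
  obtain ⟨e⟩ := nonempty_chart_iso hM f hV φ j hj
  haveI : Module.FinitePresentation Γ(X, V) Γ(M.restrict hV.fromSpec, ⊤) :=
    finitePresentation_of_extendScalars φ hφ (moduleSpecΓFunctor.obj (M.restrict hV.fromSpec))
      (finitePresentation_of_isFP_tilde _ (isFP_of_isIso e (isFP_pullback j h)))
  exact finitePresentation_of_linearEquiv (affineSecEquiv M hV)

/-- Finite local freeness descends along fpqc morphisms. -/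
theorem isFinLocFree_of_pullback_fpqc
    (h : FlatMod.IsFinLocFree ((Scheme.Modules.pullback f).obj M)) : FlatMod.IsFinLocFree M := by
  have hFP : CohB1.IsFP M := isFP_of_pullback_fpqc f hM (isFP_of_isFinLocFree h)
  rw [isFinLocFree_iff]
  refine ⟨hFP, fun x => ?_⟩
  haveI := hM
  obtain ⟨V, hV, hxV, -⟩ := exists_isAffineOpen_mem_and_subset (x := x) (U := ⊤) trivial
  obtain ⟨S, φ, j, hφ, hj⟩ := exists_ff_chart f hV
  obtain ⟨e⟩ := nonempty_chart_iso hM f hV φ j hj
  let N := moduleSpecΓFunctor.obj (M.restrict hV.fromSpec)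
  let E := (ModuleCat.extendScalars φ.hom).obj N
  have hE : FlatMod.IsFinLocFree (tilde E) :=
    M2.isFinLocFree_of_iso e (M2.isFinLocFree_pullback j h)
  have hflat : Module.Flat S E := flat_of_isFinLocFree_tilde E hE
  have hN : Module.Flat Γ(X, V) N := by
    letI : Algebra Γ(X, V) S := φ.hom.toAlgebra
    haveI : Module.FaithfullyFlat Γ(X, V) S := hφ
    haveI : Module.Flat S (S ⊗[Γ(X, V)] N) := hflat
    exact Module.Flat.of_flat_tensorProduct Γ(X, V) N S
  haveI : Module.Flat Γ(X, V) Γ(M.restrict hV.fromSpec, ⊤) := hN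
  haveI : Module.Flat Γ(X, V) Γ(M, V) := Module.Flat.of_linearEquiv (affineSecEquiv M hV).symm
  haveI := finitePresentation_sections hFP hV
  letI := stalkModule M hxV
  haveI := isLocalizedModule_germ M hV hxV
  let := TopCat.Presheaf.algebra_section_stalk X.presheaf (⟨x, hxV⟩ : V)
  haveI := hV.isLocalization_stalk ⟨x, hxV⟩
  haveI : IsScalarTower Γ(X, V) (X.presheaf.stalk x) (M.presheaf.stalk x) :=
    IsScalarTower.of_algebraMap_smul fun _ _ => rfl
  refine (Module.mem_freeLocus_of_isLocalization (hV.primeIdealOf ⟨x, hxV⟩) (X.presheaf.stalk x)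
    (M.presheaf.stalk x) (germₗ M hxV)).mp ?_
  rw [Module.freeLocus_eq_univ]
  trivial

end Groth.Agent.M1
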