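import Groth.Agent.Lib.ModM1.Sub
import Mathlib.Order.Zorn
import Mathlib.Algebra.Category.ModuleCat.Sheaf.Limits

/-!
M1: extension of finite type quasi-coherent submodules from open subschemes.
-/

universe u

open CategoryTheory Limits AlgebraicGeometry Opposite TopologicalSpace

set_option backward.isDefEq.respectTransparency false

namespace Groth.Agent.M1

variable {X : Scheme.{u}}

/-- Opens whose inclusion is quasi-compact, tested on affine opens. -/
theorem quasiCompact_ι (W : X.Opens)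
    (h : ∀ V : X.Opens, IsAffineOpen V → IsCompact (W ⊓ V : Set X)) : QuasiCompact W.ι := by
  rw [quasiCompact_iff_forall_isAffineOpen]
  intro V hV
  rw [W.ι.isOpenEmbedding.isInducing.isCompact_iff]
  have e : W.ι '' (W.ι ⁻¹ᵁ V : (W : Scheme.{u}).Opens) = (W : Set X) ∩ V := by
    change W.ι '' (W.ι ⁻¹' V) = _
    rw [Set.image_preimage_eq_range_inter, Scheme.Opens.range_ι]
  rw [e]; exact h V hV

/-- On a scheme with locally Noetherian space, opens meet affines in compact sets. -/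
theorem isCompact_inf_of_noetherianSpace
    (hX : ∀ x : X, ∃ U : X.Opens, x ∈ U ∧ NoetherianSpace (U : Set X))
    (W : X.Opens) {V : X.Opens} (hV : IsAffineOpen V) : IsCompact ((W : Set X) ∩ V) := by
  choose U hU hN using hX
  obtain ⟨t, ht⟩ := hV.isCompact.elim_finite_subcover (fun x => (U x : Set X)) (fun x => (U x).2)
    (fun x _ => Set.mem_iUnion.mpr ⟨x, hU x⟩)
  have e : (W : Set X) ∩ V = ⋃ x ∈ t, ((W : Set X) ∩ V ∩ U x) := by
    rw [← Set.inter_iUnion₂, Set.inter_assoc, Set.inter_eq_left.mpr ht]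
  rw [e]
  refine t.finite_toSet.isCompact_biUnion fun x _ => ?_
  haveI := hN x
  have := (NoetherianSpace.isCompact (Subtype.val ⁻¹' ((W : Set X) ∩ V) : Set (U x : Set X))).image
    continuous_subtype_val
  rwa [Subtype.image_preimage_coe, Set.inter_comm] at this

/-- A section of a product vanishes if all its components do. -/
theorem eq_zero_of_pi {ι : Type u} (Q : ι → X.Modules) (T : X.Opens) (x : Γ(∏ᶜ Q, T))
    (h : ∀ k, (Pi.π Q k).app T x = 0) : x = 0 := by
  let G := SheafOfModules.evaluation.{u} X.ringCatSheaf (op T)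
  refine Concrete.isLimit_ext _ (isLimitOfPreserves G (limit.isLimit (Discrete.functor Q))) x 0 fun k => ?_
  exact (h k.as).trans (map_zero _).symm

namespace Sub

variable {F : X.Modules}

/-- Two submodules agree below an open. -/
def Agree (p q : Sub F) (W : X.Opens) : Prop := ∀ T ≤ W, ∀ s, p.mem T s ↔ q.mem T s

lemma Agree.symm {p q : Sub F} {W : X.Opens} (h : Agree p q W) : Agree q p W :=
  fun T hT s => (h T hT s).symm

lemma Agree.trans {p q r : Sub F} {W : X.Opens} (h : Agree p q W) (h' : Agree q r W) : Agree p r W :=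
  fun T hT s => (h T hT s).trans (h' T hT s)

lemma Agree.mono {p q : Sub F} {W W' : X.Opens} (h : Agree p q W) (hW : W' ≤ W) : Agree p q W' :=
  fun T hT s => h T (hT.trans hW) s

/-- A submodule is quasi-coherent of finite type on an open. -/
def FTOn (p : Sub F) (W : X.Opens) : Prop :=
  Coh.IsQCoh (p.P.restrict W.ι) ∧ CohB1.IsFT (p.P.restrict W.ι)

lemma FTOn.congr {p q : Sub F} {W : X.Opens} (hp : FTOn p W) (h : Agree p q W) : FTOn q W := by
  obtain ⟨e, -⟩ := exists_res_iso W.ι p q (by rw [Scheme.Opens.opensRange_ι]; exact h)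
  exact ⟨isQCoh_of_isIso e hp.1, isFT_of_isIso e hp.2⟩

lemma FTOn.of_cover {p : Sub F} {W : X.Opens} {ι : Type*} (U : ι → X.Opens) (hU : ∀ k, U k ≤ W)
    (hW : ∀ x ∈ W, ∃ k, x ∈ U k) (h : ∀ k, FTOn p (U k)) : FTOn p W := by
  have hr (k : ι) : Set.range (U k).ι ⊆ Set.range W.ι := by
    simp only [Scheme.Opens.range_ι]; exact hU k
  have hc (y : (W : Scheme.{u})) : ∃ k, y ∈ Set.range (IsOpenImmersion.lift W.ι (U k).ι (hr k)) := by
    obtain ⟨k, hk⟩ := hW _ y.2
    refine ⟨k, ⟨W.ι y, hk⟩, W.ι.isOpenEmbedding.injective ?_⟩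
    rw [← Scheme.Hom.comp_apply, IsOpenImmersion.lift_fac]
    rfl
  exact ⟨isQCoh_of_openImmersion_cover _ hc fun k =>
      isQCoh_of_isIso (restrictLiftIso p.P W.ι (U k).ι (hr k)).symm (h k).1,
    isFT_of_openImmersion_cover _ hc fun k =>
      isFT_of_isIso (restrictLiftIso p.P W.ι (U k).ι (hr k)).symm (h k).2⟩

/-- The saturation from an open agrees on it. -/
lemma agree_ext_res (p : Sub F) (W : X.Opens) : Agree (ext W.ι (p.res W.ι)) p W := by
  intro T hT s
  rw [mem_ext_res]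
  exact p.mem_congr (inf_eq_left.mpr (by rwa [Scheme.Opens.opensRange_ι])).symm s

/-- Intersection of two submodules. -/
noncomputable def inf (p q : Sub F) : Sub F :=
  ⟨(ker (p.i ≫ cokernel.π q.i)).P, (ker (p.i ≫ cokernel.π q.i)).i ≫ p.i, mono_comp _ _⟩

lemma mem_inf (p q : Sub F) (T : X.Opens) (s : Γ(F, T)) :
    (inf p q).mem T s ↔ p.mem T s ∧ q.mem T s := by
  rw [q.mem_iff_cokernel]
  constructor
  · rintro ⟨a, rfl⟩
    refine ⟨⟨(ker (p.i ≫ cokernel.π q.i)).i.app T a, (comp_app_apply _ _ T a).symm⟩, ?_⟩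
    change (cokernel.π q.i).app T (((ker (p.i ≫ cokernel.π q.i)).i ≫ p.i).app T a) = 0
    rw [comp_app_apply, ← comp_app_apply p.i (cokernel.π q.i)]
    exact (mem_ker _ T _).mp ⟨a, rfl⟩
  · rintro ⟨⟨b, rfl⟩, hb⟩
    obtain ⟨a, ha⟩ := (mem_ker (p.i ≫ cokernel.π q.i) T b).mpr ((comp_app_apply _ _ T b).trans hb)
    exact ⟨a, (comp_app_apply _ _ T a).trans (congrArg (p.i.app T) ha)⟩

lemma isQCoh_inf (hF : Coh.IsQCoh F) {p q : Sub F} (hp : Coh.IsQCoh p.P) (hq : Coh.IsQCoh q.P) :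
    Coh.IsQCoh (inf p q).P :=
  isQCoh_kernel hp (isQCoh_cokernel hq hF _) _

lemma mem_restrict_mres {Y : Scheme.{u}} (j : Y ⟶ X) [IsOpenImmersion j] (H : Sub (F.restrict j))
    {U : X.Opens} {T T' : Y.Opens} (h : T' ≤ T) (a : j ''ᵁ T ≤ U) (b : j ''ᵁ T' ≤ U) (s : Γ(F, U))
    (hs : H.mem T (mres F a s)) : H.mem T' (mres F b s) := by
  have h' := H.mem_mres h hs
  rwa [show mres (F.restrict j) h (mres F a s) = mres F b s from
    mres_mres F a (j.image_mono h) s] at h'

variable (hF : Coh.IsQCoh F)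
include hF

/-- Enlarging the open on which a submodule has finite type by an affine open. -/
theorem exists_step (p : Sub F) (W : X.Opens) [QuasiCompact W.ι] (hp : FTOn p W) {V : X.Opens}
    (hV : IsAffineOpen V) [QuasiCompact V.ι] (hWV : IsCompact ((W : Set X) ∩ V)) :
    ∃ q : Sub F, FTOn q (W ⊔ V) ∧ Agree p q W := by
  classical
  let K : Sub F := ext W.ι (p.res W.ι)
  have hK : Coh.IsQCoh K.P := isQCoh_ext W.ι hF _ hp.1
  have hKW : Agree K p W := agree_ext_res p W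
  have hKFT : FTOn K W := hp.congr hKW.symm
  haveI := hK
  obtain ⟨t, ht⟩ : ∃ t : Finset {g : Γ(X, V) // X.basicOpen g ≤ W ⊓ V},
      (W : Set X) ∩ V ⊆ ⋃ g ∈ t, (X.basicOpen g.1 : Set X) := by
    refine hWV.elim_finite_subcover _ (fun g => (X.basicOpen g.1).2) fun x hx => ?_
    obtain ⟨g, hg, hxg⟩ := hV.exists_basicOpen_le (V := W ⊓ V) ⟨x, hx⟩ hx.2
    exact Set.mem_iUnion.mpr ⟨⟨g, hg⟩, hxg⟩
  have hgen (g : {g : Γ(X, V) // X.basicOpen g ≤ W ⊓ V}) :
      ∃ S : Finset Γ(K.P, X.basicOpen g.1), Submodule.span Γ(X, X.basicOpen g.1) (S : Set Γ(K.P, X.basicOpen g.1)) = ⊤ := by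
    have hD := hV.basicOpen g.1
    have hr : Set.range hD.fromSpec ⊆ Set.range W.ι := by
      rw [IsAffineOpen.range_fromSpec, Scheme.Opens.range_ι]; exact fun y hy => (g.2 hy).1
    haveI : Module.Finite Γ(X, X.basicOpen g.1) Γ(K.P.restrict hD.fromSpec, ⊤) :=
      finite_sections_spec _ (isQCoh_fromSpec hK hD)
        (isFT_of_isIso (restrictLiftIso K.P W.ι hD.fromSpec hr) (isFT_restrict hKFT.2 _))
    exact (Module.Finite.equiv (affineSecEquiv K.P hD)).fg_top
  choose S hS using hgen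
  have hlift (g : {g : Γ(X, V) // X.basicOpen g ≤ W ⊓ V}) (a : Γ(K.P, X.basicOpen g.1)) :
      ∃ (k : ℕ) (m : Γ(K.P, V)), mres K.P (X.basicOpen_le g.1) m =
        ores (X.basicOpen_le g.1) g.1 ^ k • a := exists_pow_smul_eq_res_affine K.P hV g.1 a
  choose k m hm using hlift
  let I : Type u := Σ g : {g // g ∈ t}, {a // a ∈ S g.1}
  let gen : I → Γ(K.P, V) := fun a => m a.1.1 a.2.1
  have hle : V.ι ''ᵁ ⊤ ≤ V := (image_ι_top V).le
  let q' : fr I ⟶ K.P.restrict V.ι := freeHom fun a => mres K.P hle (gen a)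
  let q : fr I ⟶ F.restrict V.ι := q' ≫ (Scheme.Modules.restrictFunctor V.ι).map K.i
  let H : Sub (F.restrict V.ι) := im q
  let Hx : Sub F := ext V.ι H
  have hHx : Coh.IsQCoh Hx.P :=
    isQCoh_ext V.ι hF H (isQCoh_im q (isQCoh_fr _ _) (isQCoh_restrict hF _))
  -- the generators are in `Hx`
  have hgenmem (a : I) : Hx.mem V (K.i.app V (gen a)) := by
    rw [mem_ext]
    have h1 := im_mem_app q ⊤ ((ιF a).app ⊤ (one ⊤))
    have h2 : q.app ⊤ ((ιF a).app ⊤ (one ⊤)) = mres F hle (K.i.app V (gen a)) := by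
      rw [← comp_app_apply (ιF a) q, ← Category.assoc, ιF_freeHom, secHom_comp, secHom_app_one]
      exact app_mres K.i hle (gen a)
    rw [h2] at h1
    exact H.mem_restrict_mres V.ι le_top hle _ _ h1
  -- `Hx` contains `K` below `W ⊓ V`
  have hKH (T : X.Opens) (hT : T ≤ W ⊓ V) (s : Γ(F, T)) (hs : K.mem T s) : Hx.mem T s := by
    obtain ⟨s, rfl⟩ := hs
    refine Hx.mem_of_locally _ fun x hx => ?_
    obtain ⟨g, hg, hxg⟩ : ∃ g ∈ t, x ∈ X.basicOpen g.1 := by simpa using ht (hT hx)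
    have hD := hV.basicOpen g.1
    obtain ⟨h, hhT, hxh⟩ := hD.exists_basicOpen_le (V := T) ⟨x, hx⟩ hxg
    refine ⟨X.basicOpen h, hhT, hxh, ?_⟩
    obtain ⟨l, b, hb⟩ := exists_pow_smul_eq_res_affine K.P hD h (mres K.P hhT s)
    have hall : ∀ b : Γ(K.P, X.basicOpen g.1), Hx.mem _ (K.i.app _ b) := by
      intro b
      have hb : b ∈ Submodule.span Γ(X, X.basicOpen g.1) (S g : Set _) := by
        rw [hS]; exact Submodule.mem_top
      induction hb using Submodule.span_induction with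
      | mem a ha =>
        obtain ⟨u, hu⟩ := (show IsUnit (ores (X.basicOpen_le g.1) g.1) from
          RingedSpace.isUnit_res_basicOpen X.toRingedSpace g.1).pow (k g a)
        have h1 := Hx.mem_mres (X.basicOpen_le g.1) (hgenmem ⟨⟨g, hg⟩, ⟨a, ha⟩⟩)
        rw [← app_mres, hm, Scheme.Modules.Hom.app_smul, ← hu] at h1
        simpa [smul_smul] using Hx.mem_smul (↑u⁻¹ : Γ(X, X.basicOpen g.1)) h1
      | zero => rw [map_zero]; exact Hx.mem_zero _
      | add a c _ _ ha hc => rw [map_add]; exact Hx.mem_add ha hc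
      | smul r a _ ha => rw [Scheme.Modules.Hom.app_smul]; exact Hx.mem_smul r ha
    obtain ⟨u, hu⟩ := (show IsUnit (ores (X.basicOpen_le h) h) from
      RingedSpace.isUnit_res_basicOpen X.toRingedSpace h).pow l
    have h1 := Hx.mem_mres (X.basicOpen_le h) (hall b)
    rw [← app_mres, hb, Scheme.Modules.Hom.app_smul, ← hu] at h1
    rw [← app_mres]
    simpa [smul_smul] using Hx.mem_smul (↑u⁻¹ : Γ(X, X.basicOpen h)) h1
  -- `Hx` lies in `K` below `V`
  have hHK (T : X.Opens) (hT : T ≤ V) (s : Γ(F, T)) (hs : Hx.mem T s) : K.mem T s := by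
    rw [mem_ext] at hs
    have h1 := im_le q (K.res V.ι) (fun T' n => ⟨q'.app T' n, (comp_app_apply _ _ T' n).symm⟩) _ _ hs
    rw [mem_res] at h1
    exact (K.mem_congr (Scheme.Hom.image_preimage_eq_opensRange_inf V.ι T |>.trans (by
      rw [Scheme.Opens.opensRange_ι]; exact inf_eq_right.mpr hT)).symm s).mp h1
  let r := inf K Hx
  have hr : Coh.IsQCoh r.P := isQCoh_inf hF hK hHx
  have hrW : Agree p r W := by
    refine hKW.symm.trans fun T hT s => ?_
    rw [mem_inf]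
    refine ⟨fun h => ⟨h, ?_⟩, fun h => h.1⟩
    rw [mem_ext]
    have h1 := hKH _ (le_inf ((V.ι.image_preimage_le T).trans hT) (V.ι_image_le _)) _
      (K.mem_mres (V.ι.image_preimage_le T) h)
    rw [mem_ext] at h1
    rw [mres_mres] at h1
    exact H.mem_restrict_mres V.ι (V.ι.preimage_image_eq _).ge _ _ _ h1
  have hrV : Agree r Hx V := fun T hT s => by
    rw [mem_inf]; exact ⟨fun h => h.2, fun h => ⟨hHK T hT s h, h⟩⟩
  have hHxV : FTOn Hx V := by
    obtain ⟨e, -⟩ := exists_iso (Hx.res V.ι) H (mem_res_ext V.ι H)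
    exact ⟨isQCoh_restrict hHx _,
      isFT_of_isIso e.symm (isFT_im q (isFT_fr _ _))⟩
  refine ⟨r, FTOn.of_cover ![W, V] ?_ ?_ ?_, hrW⟩
  · intro i; fin_cases i
    exacts [le_sup_left, le_sup_right]
  · rintro x (hx | hx)
    exacts [⟨0, hx⟩, ⟨1, hx⟩]
  · intro i; fin_cases i
    exacts [hp.congr hrW, hHxV.congr hrV.symm]

omit hF in
lemma exists_inter {ι : Type u} (p : ι → Sub F) :
    ∃ q : Sub F, ∀ T s, q.mem T s ↔ ∀ k, (p k).mem T s := by
  refine ⟨ker (Pi.lift fun k => cokernel.π (p k).i), fun T s => ?_⟩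
  rw [mem_ker]
  simp only [mem_iff_cokernel]
  constructor
  · intro h k
    rw [← Pi.lift_π (fun k => cokernel.π (p k).i) k, comp_app_apply, h, map_zero]
  · intro h
    refine eq_zero_of_pi _ T _ fun k => ?_
    rw [← comp_app_apply, Pi.lift_π]
    exact h k

/-- Extension to the whole scheme when the space is locally Noetherian. -/
theorem exists_extend_noetherian
    (hX : ∀ x : X, ∃ U : X.Opens, x ∈ U ∧ NoetherianSpace (U : Set X))
    (p₀ : Sub F) (U : X.Opens) (hU : FTOn p₀ U) :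
    ∃ q : Sub F, Coh.IsQCoh q.P ∧ CohB1.IsFT q.P ∧ Agree p₀ q U := by
  have hqc (W : X.Opens) : QuasiCompact W.ι :=
    quasiCompact_ι W fun V hV => isCompact_inf_of_noetherianSpace hX W hV
  let S := {w : X.Opens × Sub F // U ≤ w.1 ∧ FTOn w.2 w.1 ∧ Agree p₀ w.2 U}
  letI : Preorder S :=
    { le := fun a b => a.1.1 ≤ b.1.1 ∧ Agree a.1.2 b.1.2 a.1.1
      le_refl := fun a => ⟨le_rfl, fun _ _ _ => Iff.rfl⟩
      le_trans := fun a b c h h' => ⟨h.1.trans h'.1, h.2.trans (h'.2.mono h.1)⟩ }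
  obtain ⟨⟨⟨W, q⟩, hUW, hq, hqU⟩, -, hmax⟩ := zorn_le_nonempty₀ (Set.univ : Set S) (fun c _ hc a ha => by
    let ι : Type u := {W : X.Opens // ∃ b ∈ c, b.1.1 = W}
    choose b hb hbW using fun k : ι => k.2
    obtain ⟨q, hq⟩ := exists_inter fun k : ι => ext k.1.ι ((b k).1.2.res k.1.ι)
    have hag (w : S) (hw : w ∈ c) : Agree w.1.2 q w.1.1 := by
      intro T hT s
      have hk : ∀ k : ι, k.1 = (b k).1.1 := fun k => (hbW k).symm
      rw [hq]
      constructor
      · intro hs k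
        rw [mem_ext_res]
        have hs' : w.1.2.mem (T ⊓ k.1.ι.opensRange) (mres F inf_le_left s) := w.1.2.mem_mres _ hs
        rcases hc.total hw (hb k) with h | h
        · exact (h.2 _ (inf_le_left.trans hT) _).mp hs'
        · exact (h.2 _ (by rw [Scheme.Opens.opensRange_ι, hk k]; exact inf_le_right) _).mpr hs'
      · intro h
        have hagree : Agree (b ⟨w.1.1, w, hw, rfl⟩).1.2 w.1.2 w.1.1 := by
          rcases hc.total hw (hb ⟨w.1.1, w, hw, rfl⟩) with h' | h'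
          · exact h'.2.symm
          · exact h'.2.mono (hk ⟨w.1.1, w, hw, rfl⟩).le
        exact (hagree T hT s).mp ((agree_ext_res _ w.1.1 T hT s).mp (h ⟨w.1.1, w, hw, rfl⟩))
    let Wc : X.Opens := ⨆ k : ι, k.1
    have hle (w : S) (hw : w ∈ c) : w.1.1 ≤ Wc :=
      le_iSup (fun k : ι => k.1) ⟨w.1.1, w, hw, rfl⟩
    refine ⟨⟨(Wc, q), a.2.1.trans (hle a ha), ?_, a.2.2.2.trans ((hag a ha).mono a.2.1)⟩,
      trivial, fun w hw => ⟨hle w hw, hag w hw⟩⟩
    refine FTOn.of_cover (fun w : c => w.1.1.1) (fun w => hle w.1 w.2) ?_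
      fun w => w.1.2.2.1.congr (hag w.1 w.2)
    intro x hx
    obtain ⟨k, hk'⟩ := Opens.mem_iSup.mp hx
    exact ⟨⟨b k, hb k⟩, by rwa [hbW k]⟩) ⟨(U, p₀), le_rfl, hU, fun _ _ _ => Iff.rfl⟩ trivial
  have htop : ∀ x : X, x ∈ W := by
    intro x
    obtain ⟨V, hV, hxV, -⟩ := exists_isAffineOpen_mem_and_subset (x := x) (U := ⊤) trivial
    haveI := hqc W
    haveI := hqc V
    obtain ⟨q', hq', hag⟩ := exists_step hF q W hq hV (isCompact_inf_of_noetherianSpace hX W hV)
    let y : S := ⟨(W ⊔ V, q'), hUW.trans le_sup_left, hq', hqU.trans (hag.mono hUW)⟩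
    have := hmax.2 (y := y) trivial ⟨le_sup_left, hag⟩
    exact this.1 (le_sup_right (a := W) hxV)
  refine ⟨q, ?_, ?_, hqU⟩
  · exact isQCoh_of_openImmersion_cover (fun _ : PUnit.{1} => W.ι)
      (fun x => ⟨⟨⟩, by rw [Scheme.Opens.range_ι]; exact htop x⟩) fun _ => hq.1
  · exact isFT_of_openImmersion_cover (fun _ : PUnit.{1} => W.ι)
      (fun x => ⟨⟨⟩, by rw [Scheme.Opens.range_ι]; exact htop x⟩) fun _ => hq.2

/-- Extension to the whole scheme in the quasi-compact quasi-separated case. -/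
theorem exists_extend_qcqs [CompactSpace X] [QuasiSeparatedSpace X]
    (p₀ : Sub F) (U : X.Opens) (hUc : IsCompact (U : Set X)) (hU : FTOn p₀ U) :
    ∃ q : Sub F, Coh.IsQCoh q.P ∧ CohB1.IsFT q.P ∧ Agree p₀ q U := by
  have hqc {W : X.Opens} (hW : IsCompact (W : Set X)) : QuasiCompact W.ι :=
    quasiCompact_ι W fun V hV =>
      QuasiSeparatedSpace.inter_isCompact _ _ W.2 hW V.2 hV.isCompact
  obtain ⟨s, hs, hcov⟩ := exists_finite_affine_iSup (X := X) (U := ⊤) isCompact_univ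
  have key : ∀ l : List X.affineOpens, ∃ (W : X.Opens) (q : Sub F), IsCompact (W : Set X) ∧ U ≤ W ∧
      (∀ V ∈ l, V.1 ≤ W) ∧ FTOn q W ∧ Agree p₀ q U := by
    intro l
    induction l with
    | nil => exact ⟨U, p₀, hUc, le_rfl, by simp, hU, fun _ _ _ => Iff.rfl⟩
    | cons V l ih =>
      obtain ⟨W, q, hWc, hUW, hl, hq, hag⟩ := ih
      haveI := hqc hWc
      haveI := hqc V.2.isCompact
      obtain ⟨q', hq', hag'⟩ := exists_step hF q W hq V.2
        (QuasiSeparatedSpace.inter_isCompact _ _ W.2 hWc V.1.2 V.2.isCompact)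
      refine ⟨W ⊔ V.1, q', by rw [Opens.coe_sup]; exact hWc.union V.2.isCompact, hUW.trans le_sup_left,
        ?_, hq', hag.trans (hag'.mono hUW)⟩
      intro V' hV'
      rcases List.mem_cons.mp hV' with rfl | h
      exacts [le_sup_right, (hl V' h).trans le_sup_left]
  obtain ⟨W, q, -, -, hl, hq, hag⟩ := key hs.toFinset.toList
  have htop (x : X) : x ∈ W := by
    have hx : x ∈ (⊤ : X.Opens) := trivial
    rw [hcov, Opens.mem_iSup] at hx
    obtain ⟨V, hV⟩ := hx
    exact hl V.1 (by simp) hV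
  refine ⟨q, ?_, ?_, hag⟩
  · exact isQCoh_of_openImmersion_cover (fun _ : PUnit.{1} => W.ι)
      (fun x => ⟨⟨⟩, by rw [Scheme.Opens.range_ι]; exact htop x⟩) fun _ => hq.1
  · exact isFT_of_openImmersion_cover (fun _ : PUnit.{1} => W.ι)
      (fun x => ⟨⟨⟩, by rw [Scheme.Opens.range_ι]; exact htop x⟩) fun _ => hq.2

omit hF in
/-- A finite type submodule of a restriction, extended as a submodule agreeing on the open. -/
theorem exists_initial {U : X.Opens} {G : (U : Scheme.{u}).Modules} (i : G ⟶ F.restrict U.ι) [Mono i]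
    (hG : Coh.IsQCoh G) (hG' : CohB1.IsFT G) :
    ∃ p : Sub F, FTOn p U ∧ ∀ q : Sub F, Agree p q U →
      ∃ e : q.P.restrict U.ι ≅ G, e.hom ≫ i = (Scheme.Modules.restrictFunctor U.ι).map q.i := by
  let H : Sub (F.restrict U.ι) := ⟨G, i, inferInstance⟩
  obtain ⟨e, he⟩ := exists_iso ((ext U.ι H).res U.ι) H (mem_res_ext U.ι H)
  refine ⟨ext U.ι H, ⟨isQCoh_of_isIso e.symm hG, isFT_of_isIso e.symm hG'⟩, fun q hq => ?_⟩
  obtain ⟨e', he'⟩ := exists_res_iso U.ι q (ext U.ι H) (by rw [Scheme.Opens.opensRange_ι]; exact hq.symm)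
  exact ⟨e' ≪≫ e, by rw [Iso.trans_hom, Category.assoc]; exact (congrArg (e'.hom ≫ ·) he).trans he'⟩

end Sub

end Groth.Agent.M1
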