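import Groth.Agent.Lib.ModM1.Push
import Groth.Agent.Lib.ModM1.Coh
import Groth.Agent.Lib.ModM1.Stalk

/-!
M1: quasi-coherence from localisation of sections on basic opens of affine opens.
-/

universe u

open CategoryTheory Limits AlgebraicGeometry Opposite TopologicalSpace

namespace Groth.Agent.M1

variable {X : Scheme.{u}}

lemma fromSpec_image_inf_gs {U : X.Opens} (hU : IsAffineOpen U) (r : Γ(X, U)) :
    hU.fromSpec ''ᵁ (⊤ ⊓ (Spec Γ(X, U)).basicOpen (gs r)) = X.basicOpen r := by
  rw [top_inf_eq, basicOpen_gs]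
  exact hU.fromSpec_image_basicOpen r

lemma fromSpec_appIso_inv' {U : X.Opens} (hU : IsAffineOpen U) (r : Γ(X, U))
    (W : (Spec Γ(X, U)).Opens) (h : hU.fromSpec ''ᵁ W ≤ U) :
    (hU.fromSpec.appIso W).inv (rs W (gs r)) = ores h r := by
  have h' : hU.fromSpec ''ᵁ W ≤ hU.fromSpec ''ᵁ ⊤ := hU.fromSpec.image_mono le_top
  have e := ConcreteCategory.congr_hom
    (hU.fromSpec.appIso_inv_naturality (homOfLE (le_top : W ≤ ⊤)).op) (rs ⊤ (gs r))
  simp only [ConcreteCategory.comp_apply] at e
  have e0 : (Spec Γ(X, U)).presheaf.map (homOfLE (le_top : W ≤ ⊤)).op (rs ⊤ (gs r)) = rs W (gs r) :=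
    rs_rs le_top (gs r)
  rw [e0] at e
  rw [e, show (hU.fromSpec.appIso ⊤).inv (rs ⊤ (gs r)) = ores (fromSpec_image_top hU).le r from fromSpec_appIso_inv hU r]
  exact ores_ores (fromSpec_image_top hU).le h' r

/-- A module whose sections localise on basic opens of affine opens is quasi-coherent. -/
theorem isQCoh_of_loc_affine (M : X.Modules)
    (hsurj : ∀ (U : X.Opens), IsAffineOpen U → ∀ (r : Γ(X, U)) (t : Γ(M, X.basicOpen r)),
      ∃ (k : ℕ) (t₀ : Γ(M, U)), mres M (X.basicOpen_le r) t₀ = ores (X.basicOpen_le r) r ^ k • t)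
    (hinj : ∀ (U : X.Opens), IsAffineOpen U → ∀ (r : Γ(X, U)) (t : Γ(M, U)),
      mres M (X.basicOpen_le r) t = 0 → ∃ n : ℕ, r ^ n • t = 0) :
    Coh.IsQCoh M := by
  refine isQCoh_of_fromSpec fun U hU => isQuasicoherent_of_loc _ (fun r => ?_) (fun r => ?_)
  · intro t ht
    have e := fromSpec_image_inf_gs hU r
    have e1 := fromSpec_image_top hU
    let t' : Γ(M, U) := mres M e1.ge ((M.restrictAppIso hU.fromSpec ⊤).hom t)
    have ht' : mres M (X.basicOpen_le r) t' = 0 := by
      have h0 := congrArg (mres M e.ge) (congrArg ((M.restrictAppIso hU.fromSpec _).hom) ht)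
      rw [map_zero, map_zero] at h0
      refine Eq.trans ?_ h0
      rw [mres_mres]
      exact (mres_mres M (hU.fromSpec.image_mono inf_le_left) e.ge _).symm
    obtain ⟨n, hn⟩ := hinj U hU r t' ht'
    refine ⟨n, ((ConcreteCategory.isIso_iff_bijective (M.restrictAppIso hU.fromSpec ⊤).hom).mp
      inferInstance).1 ?_⟩
    rw [Scheme.Modules.smul_restrictAppIso_hom_apply, map_zero, map_pow, fromSpec_appIso_inv' hU r ⊤ e1.le]
    have h0 := congrArg (mres M e1.le) hn
    rw [mres_smul, map_pow, map_zero, mres_mres, mres_id] at h0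
    exact h0
  · intro s
    have e := fromSpec_image_inf_gs hU r
    have e1 := fromSpec_image_top hU
    obtain ⟨k, t₀, ht⟩ := hsurj U hU r (mres M e.ge ((M.restrictAppIso hU.fromSpec _).hom s))
    refine ⟨k, (M.restrictAppIso hU.fromSpec ⊤).inv (mres M e1.le t₀), ?_⟩
    refine ((ConcreteCategory.isIso_iff_bijective (M.restrictAppIso hU.fromSpec _).hom).mp
      inferInstance).1 ?_
    rw [Scheme.Modules.smul_restrictAppIso_hom_apply, map_pow,
      fromSpec_appIso_inv' hU r _ (e.le.trans (X.basicOpen_le r))]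
    change mres M (hU.fromSpec.image_mono inf_le_left) (mres M e1.le t₀) = _
    have h0 := congrArg (mres M e.le) ht
    rw [mres_smul, map_pow, ores_ores, mres_mres, mres_mres, mres_id] at h0
    rw [mres_mres]
    exact h0

end Groth.Agent.M1
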