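import Groth.Agent.Lib.ModM1.Extend
import Groth.Agent.Lib.ModM1.FibreProd
import Groth.Agent.Lib.ModM1.QcohCrit
import Groth.Prelude.Def_RelSpec

/-!
M1: quasi-coherent algebras of finite type are generated by finite type submodules.
-/

universe u

open CategoryTheory Limits AlgebraicGeometry Opposite TopologicalSpace

set_option backward.isDefEq.respectTransparency false

namespace Groth.Agent.M1

variable {X : Scheme.{u}}

namespace Sub

variable {F : X.Modules}

/-- A finite type quasi-coherent submodule through a given section over an affine open. -/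
theorem exists_through_section [CompactSpace X] [QuasiSeparatedSpace X] (hF : Coh.IsQCoh F)
    (U : X.affineOpens) (s : Γ(F, U.1)) :
    ∃ q : Sub F, Coh.IsQCoh q.P ∧ CohB1.IsFT q.P ∧ q.mem U.1 s := by
  have hle := image_ι_top (X := X) U.1
  let t : Γ(F.restrict U.1.ι, ⊤) := mres F hle.le s
  let H := Sub.im (secHom t)
  have hH := isQCoh_im (secHom t) (isQCoh_structureModule _) (isQCoh_restrict hF U.1.ι)
  have hH' := isFT_im (secHom t) (isCoh_structureModule _).2
  obtain ⟨e, -⟩ := exists_iso ((ext U.1.ι H).res U.1.ι) H (mem_res_ext U.1.ι H)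
  obtain ⟨q, hq, hq', hag⟩ := exists_extend_qcqs hF (ext U.1.ι H) U.1 U.2.isCompact
    ⟨isQCoh_of_isIso e.symm hH, isFT_of_isIso e.symm hH'⟩
  refine ⟨q, hq, hq', (hag U.1 le_rfl s).mp ?_⟩
  rw [mem_ext]
  have h1 := im_mem_app (secHom t) ⊤ (one ⊤)
  rw [secHom_app_one] at h1
  exact H.mem_restrict_mres U.1.ι le_top hle.le _ s h1

/-- The zero submodule has finite type. -/
theorem exists_zero (hF : Coh.IsQCoh F) : ∃ q : Sub F, Coh.IsQCoh q.P ∧ CohB1.IsFT q.P :=
  ⟨im (0 : fr PEmpty.{u + 1} ⟶ F), isQCoh_im _ (isQCoh_fr _ _) hF, isFT_im _ (isFT_fr _ _)⟩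

/-- The sum of two finite type submodules. -/
theorem exists_sup (hF : Coh.IsQCoh F) {p q : Sub F} (hp : Coh.IsQCoh p.P) (hp' : CohB1.IsFT p.P)
    (hq : Coh.IsQCoh q.P) (hq' : CohB1.IsFT q.P) :
    ∃ r : Sub F, Coh.IsQCoh r.P ∧ CohB1.IsFT r.P ∧ (∀ T s, p.mem T s → r.mem T s) ∧
      ∀ T s, q.mem T s → r.mem T s := by
  have hb := isQCoh_biprod hp hq
  have hb' : CohB1.IsFT (p.P ⊞ q.P) := by
    refine isFT_of_finite_sections hb fun U hU => ?_
    haveI := finite_sections hp hp' hU
    haveI := finite_sections hq hq' hU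
    let f : Γ(p.P, U) × Γ(q.P, U) →ₗ[Γ(X, U)] Γ(p.P ⊞ q.P, U) :=
      { toFun := fun a => (biprod.inl : p.P ⟶ p.P ⊞ q.P).app U a.1 + (biprod.inr : q.P ⟶ p.P ⊞ q.P).app U a.2
        map_add' := fun a b => by simp only [Prod.fst_add, Prod.snd_add, map_add]; abel
        map_smul' := fun r a => by
          simp only [Prod.smul_fst, Prod.smul_snd, Scheme.Modules.Hom.app_smul, RingHom.id_apply, smul_add] }
    refine Module.Finite.of_surjective f fun x => ?_
    let b := (biprod.snd : p.P ⊞ q.P ⟶ q.P).app U x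
    obtain ⟨a, ha⟩ := sections_exact
      (S := ShortComplex.mk (biprod.inl : p.P ⟶ p.P ⊞ q.P) biprod.snd biprod.inl_snd)
      (ShortComplex.Splitting.ofHasBinaryBiproduct p.P q.P).exact U
      (x - (biprod.inr : q.P ⟶ p.P ⊞ q.P).app U b) (by
        change (biprod.snd : p.P ⊞ q.P ⟶ q.P).app U _ = 0
        rw [map_sub, ← comp_app_apply biprod.inr biprod.snd, biprod.inr_snd]
        exact sub_self b)
    exact ⟨(a, b), eq_sub_iff_add_eq.mp ha⟩
  refine ⟨im (biprod.desc p.i q.i), isQCoh_im _ hb hF, isFT_im _ hb', ?_, ?_⟩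
  · rintro T s ⟨a, rfl⟩
    have h := im_mem_app (biprod.desc p.i q.i) T ((biprod.inl : p.P ⟶ p.P ⊞ q.P).app T a)
    rwa [← comp_app_apply, biprod.inl_desc] at h
  · rintro T s ⟨a, rfl⟩
    have h := im_mem_app (biprod.desc p.i q.i) T ((biprod.inr : q.P ⟶ p.P ⊞ q.P).app T a)
    rwa [← comp_app_apply, biprod.inr_desc] at h

end Sub

namespace QC

variable (B : RelSpec.QCAlg X)

/-- Sections of the algebra as sections of its module. -/
abbrev sec {U : X.Opens} (s : Γ(B.toModule, U)) : B.presheaf.obj (op U) := s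

/-- The underlying module of a quasi-coherent algebra is quasi-coherent. -/
theorem isQCoh_toModule : Coh.IsQCoh B.toModule := by
  refine isQCoh_of_loc_affine _ (fun U hU r t => ?_) (fun U hU r t ht => ?_)
  all_goals
    letI := (B.presheaf.map (homOfLE (X.basicOpen_le r)).op).hom.toAlgebra
    haveI : IsLocalization.Away ((B.str.app (op U)).hom r) (B.presheaf.obj (op (X.basicOpen r))) :=
      B.isQC U hU r
  · obtain ⟨⟨t₀, ⟨_, k, rfl⟩⟩, h⟩ :=
      IsLocalization.surj (Submonoid.powers ((B.str.app (op U)).hom r)) (sec B t)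
    refine ⟨k, t₀, h.symm.trans ?_⟩
    change sec B t * (B.presheaf.map _).hom ((B.str.app _).hom r ^ k) =
      (B.str.app _).hom ((X.presheaf.map _).hom r ^ k) * sec B t
    rw [map_pow, map_pow, mul_comm]
    congr 2
    exact (ConcreteCategory.congr_hom (B.str.naturality (homOfLE (X.basicOpen_le r)).op) r).symm
  · obtain ⟨⟨_, n, rfl⟩, h⟩ := (IsLocalization.map_eq_zero_iff
      (Submonoid.powers ((B.str.app (op U)).hom r)) (B.presheaf.obj (op (X.basicOpen r))) (sec B t)).mp ht
    refine ⟨n, ?_⟩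
    change (B.str.app (op U)).hom (r ^ n) * sec B t = 0
    rw [map_pow]
    exact h

variable {B}

/-- The subring generated by a submodule over an open. -/
def gen (q : Sub B.toModule) (U : X.Opens) : Subring (B.presheaf.obj (op U)) :=
  Subring.closure (Set.range (B.str.app (op U)).hom ∪ {b | q.mem U b})

lemma str_mem_gen (q : Sub B.toModule) (U : X.Opens) (a : Γ(X, U)) :
    (B.str.app (op U)).hom a ∈ gen q U := Subring.subset_closure (Or.inl ⟨a, rfl⟩)

variable {q : Sub B.toModule} {U : X.Opens} (hU : IsAffineOpen U) (g : Γ(X, U))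

lemma str_map {U V : X.Opens} (h : V ≤ U) (a : Γ(X, U)) :
    (B.str.app (op V)).hom (ores h a) = (B.presheaf.map (homOfLE h).op).hom ((B.str.app (op U)).hom a) :=
  ConcreteCategory.congr_hom (B.str.naturality (homOfLE h).op) a

include hU

/-- Generation passes to basic opens. -/
theorem gen_basicOpen (h : gen q U = ⊤) : gen q (X.basicOpen g) = ⊤ := by
  rw [eq_top_iff]
  intro b _
  letI := (B.presheaf.map (homOfLE (X.basicOpen_le g)).op).hom.toAlgebra
  haveI : IsLocalization.Away ((B.str.app (op U)).hom g) (B.presheaf.obj (op (X.basicOpen g))) :=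
    B.isQC U hU g
  obtain ⟨⟨c, ⟨_, k, rfl⟩⟩, hb⟩ := IsLocalization.surj (Submonoid.powers ((B.str.app (op U)).hom g)) b
  have hmap : gen q U ≤ (gen q (X.basicOpen g)).comap (B.presheaf.map (homOfLE (X.basicOpen_le g)).op).hom := by
    refine Subring.closure_le.mpr ?_
    rintro x (⟨a, rfl⟩ | hx)
    · rw [SetLike.mem_coe, Subring.mem_comap, ← str_map]; exact str_mem_gen q _ _
    · exact Subring.subset_closure (Or.inr (q.mem_mres (X.basicOpen_le g) hx))
  have hc := hmap (h ▸ Subring.mem_top c)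
  obtain ⟨u, hu⟩ := (show IsUnit (ores (X.basicOpen_le g) g) from
    RingedSpace.isUnit_res_basicOpen X.toRingedSpace g).pow k
  have hb' : b * (B.str.app _).hom (u : Γ(X, X.basicOpen g)) =
      (B.presheaf.map (homOfLE (X.basicOpen_le g)).op).hom c := by
    rw [hu, map_pow, str_map, ← map_pow]; exact hb
  have : b = (B.presheaf.map (homOfLE (X.basicOpen_le g)).op).hom c *
      (B.str.app _).hom ((↑u⁻¹ : Γ(X, X.basicOpen g))) := by
    rw [← hb', mul_assoc, ← map_mul, Units.mul_inv, map_one, mul_one]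
  rw [this]
  exact Subring.mul_mem _ hc (str_mem_gen q _ _)

/-- Elements generated on a basic open come from generated elements. -/
theorem exists_pow_mul_eq (hq : Coh.IsQCoh q.P) {b : B.presheaf.obj (op (X.basicOpen g))}
    (hb : b ∈ gen q (X.basicOpen g)) :
    ∃ (n : ℕ) (c : B.presheaf.obj (op U)), c ∈ gen q U ∧
      (B.presheaf.map (homOfLE (X.basicOpen_le g)).op).hom c =
        (B.presheaf.map (homOfLE (X.basicOpen_le g)).op).hom ((B.str.app (op U)).hom g) ^ n * b := by
  haveI := hq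
  induction hb using Subring.closure_induction with
  | mem x hx =>
    rcases hx with ⟨a, rfl⟩ | hx
    · letI := (ores (X.basicOpen_le g)).hom.toAlgebra
      haveI : IsLocalization.Away g Γ(X, X.basicOpen g) := hU.isLocalization_basicOpen g
      obtain ⟨⟨c, ⟨_, n, rfl⟩⟩, hc⟩ := IsLocalization.surj (Submonoid.powers g) a
      refine ⟨n, (B.str.app (op U)).hom c, str_mem_gen q U c, ?_⟩
      rw [← str_map, ← str_map, ← map_pow, ← map_mul]
      exact congrArg _ (hc.symm.trans (by rw [mul_comm, RingHom.algebraMap_toAlgebra, map_pow]))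
    · obtain ⟨m, rfl⟩ := hx
      obtain ⟨n, m₀, hm⟩ := exists_pow_smul_eq_res_affine q.P hU g m
      refine ⟨n, sec B (q.i.app U m₀), Subring.subset_closure (Or.inr ⟨m₀, rfl⟩), ?_⟩
      refine ((app_mres q.i (X.basicOpen_le g) m₀).symm.trans (congrArg (q.i.app _) hm)).trans ?_
      rw [Scheme.Modules.Hom.app_smul, ← str_map, ← map_pow (B.str.app (op (X.basicOpen g))).hom]
      rfl
  | zero => exact ⟨0, 0, zero_mem _, by simp⟩
  | one => exact ⟨0, 1, one_mem _, by simp⟩
  | add x y _ _ hx hy =>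
    obtain ⟨n, c, hc, hx⟩ := hx
    obtain ⟨m, d, hd, hy⟩ := hy
    refine ⟨n + m, (B.str.app (op U)).hom g ^ m * c + (B.str.app (op U)).hom g ^ n * d,
      add_mem (mul_mem (pow_mem (str_mem_gen q U g) _) hc) (mul_mem (pow_mem (str_mem_gen q U g) _) hd), ?_⟩
    rw [map_add, map_mul, map_mul, map_pow, map_pow, hx, hy]
    ring
  | neg x _ hx =>
    obtain ⟨n, c, hc, hx⟩ := hx
    exact ⟨n, -c, neg_mem hc, by rw [map_neg, hx]; ring⟩
  | mul x y _ _ hx hy =>
    obtain ⟨n, c, hc, hx⟩ := hx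
    obtain ⟨m, d, hd, hy⟩ := hy
    exact ⟨n + m, c * d, mul_mem hc hd, by rw [map_mul, hx, hy]; ring⟩

/-- Generation is local on an affine open. -/
theorem gen_eq_top_of_locally (hq : Coh.IsQCoh q.P)
    (h : ∀ x ∈ U, ∃ f : Γ(X, U), x ∈ X.basicOpen f ∧ gen q (X.basicOpen f) = ⊤) : gen q U = ⊤ := by
  rw [eq_top_iff]
  intro b _
  let S := {f : Γ(X, U) | ∃ n : ℕ, (B.str.app (op U)).hom f ^ n * b ∈ gen q U}
  let J : Ideal Γ(X, U) :=
    { carrier := {a | (B.str.app (op U)).hom a * b ∈ gen q U}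
      zero_mem' := by simp
      add_mem' := fun {a a'} ha ha' => by
        simp only [Set.mem_setOf_eq, map_add, add_mul] at ha ha' ⊢; exact add_mem ha ha'
      smul_mem' := fun c a ha => by
        simp only [Set.mem_setOf_eq, smul_eq_mul, map_mul, mul_assoc] at ha ⊢
        exact mul_mem (str_mem_gen q U c) ha }
  suffices hJ : J.radical = ⊤ by
    have h1 : (1 : Γ(X, U)) ∈ J := by
      obtain ⟨n, hn⟩ := (hJ ▸ Submodule.mem_top : (1 : Γ(X, U)) ∈ J.radical)
      rwa [one_pow] at hn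
    simpa [J] using h1
  rw [eq_top_iff, ← hU.self_le_iSup_basicOpen_iff.mp (show U ≤ ⨆ f : S, X.basicOpen f.1 from ?_)]
  · refine Ideal.span_le.mpr ?_
    rintro f ⟨n, hn⟩
    exact ⟨n, by change (B.str.app (op U)).hom (f ^ n) * b ∈ gen q U; rwa [map_pow]⟩
  · intro x hx
    obtain ⟨f, hxf, hf⟩ := h x hx
    obtain ⟨n, c, hc, e⟩ := exists_pow_mul_eq hU f hq
      (b := (B.presheaf.map (homOfLE (X.basicOpen_le f)).op).hom b) (hf ▸ Subring.mem_top _)
    letI := (B.presheaf.map (homOfLE (X.basicOpen_le f)).op).hom.toAlgebra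
    haveI : IsLocalization.Away ((B.str.app (op U)).hom f) (B.presheaf.obj (op (X.basicOpen f))) :=
      B.isQC U hU f
    rw [← map_pow, ← map_mul] at e
    obtain ⟨⟨_, m, rfl⟩, hm⟩ :=
      (IsLocalization.eq_iff_exists (Submonoid.powers ((B.str.app (op U)).hom f)) _).mp e
    refine Opens.mem_iSup.mpr ⟨⟨f, m + n, ?_⟩, hxf⟩
    rw [pow_add, mul_assoc]
    exact hm ▸ mul_mem (pow_mem (str_mem_gen q U f) _) hc

end QC

/-- A quasi-coherent algebra of finite type is generated by a finite type submodule. -/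
theorem exists_generating [CompactSpace X] [QuasiSeparatedSpace X] (B : RelSpec.QCAlg X)
    (hB : ∀ U : X.affineOpens, (B.str.app (op (U : X.Opens))).hom.FiniteType) :
    ∃ q : Sub B.toModule, Coh.IsQCoh q.P ∧ CohB1.IsFT q.P ∧ ∀ U : X.affineOpens, QC.gen q U.1 = ⊤ := by
  have hF := QC.isQCoh_toModule B
  obtain ⟨s, hs, hcov⟩ := exists_finite_affine_iSup (X := X) (U := ⊤) isCompact_univ
  have hgen (V : X.affineOpens) : ∃ l : List (B.presheaf.obj (op V.1)),
      ∀ q : Sub B.toModule, (∀ b ∈ l, q.mem V.1 b) → QC.gen q V.1 = ⊤ := by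
    letI : Algebra Γ(X, V.1) (B.presheaf.obj (op V.1)) := (B.str.app (op V.1)).hom.toAlgebra
    haveI : Algebra.FiniteType Γ(X, V.1) (B.presheaf.obj (op V.1)) := hB V
    obtain ⟨t, ht⟩ := (Algebra.FiniteType.out : (⊤ : Subalgebra Γ(X, V.1) (B.presheaf.obj (op V.1))).FG)
    refine ⟨t.toList, fun q hq => ?_⟩
    rw [eq_top_iff]
    intro b _
    have hb : b ∈ Algebra.adjoin Γ(X, V.1) (t : Set (B.presheaf.obj (op V.1))) := ht ▸ Algebra.mem_top
    induction hb using Algebra.adjoin_induction with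
    | mem x hx => exact Subring.subset_closure (Or.inr (hq x (by simpa using hx)))
    | algebraMap a => exact QC.str_mem_gen q _ a
    | add x y _ _ hx hy => exact add_mem (hx trivial) (hy trivial)
    | mul x y _ _ hx hy => exact mul_mem (hx trivial) (hy trivial)
  choose l hl using hgen
  have key : ∀ L : List (Σ V : X.affineOpens, B.presheaf.obj (op V.1)),
      ∃ q : Sub B.toModule, Coh.IsQCoh q.P ∧ CohB1.IsFT q.P ∧ ∀ a ∈ L, q.mem a.1.1 a.2 := by
    intro L
    induction L with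
    | nil =>
      obtain ⟨q, hq, hq'⟩ := Sub.exists_zero hF
      exact ⟨q, hq, hq', by simp⟩
    | cons a L ih =>
      obtain ⟨p, hp, hp', hL⟩ := ih
      obtain ⟨q, hq, hq', ha⟩ := Sub.exists_through_section hF a.1 a.2
      obtain ⟨r, hr, hr', h1, h2⟩ := Sub.exists_sup hF hp hp' hq hq'
      refine ⟨r, hr, hr', fun b hb => ?_⟩
      rcases List.mem_cons.mp hb with rfl | hb
      exacts [h2 _ _ ha, h1 _ _ (hL b hb)]
  obtain ⟨q, hq, hq', hqL⟩ := key (hs.toFinset.toList.flatMap fun V => (l V).map fun b => ⟨V, b⟩)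
  refine ⟨q, hq, hq', fun U => QC.gen_eq_top_of_locally U.2 hq fun x hx => ?_⟩
  have hx' : x ∈ (⊤ : X.Opens) := trivial
  rw [hcov, Opens.mem_iSup] at hx'
  obtain ⟨V, hxV⟩ := hx'
  obtain ⟨f, g, e, hxf⟩ := exists_basicOpen_le_affine_inter U.2 V.1.2 x ⟨hx, hxV⟩
  refine ⟨f, hxf, ?_⟩
  rw [e]
  refine QC.gen_basicOpen V.1.2 g (hl V.1 q fun b hb => hqL ⟨V.1, b⟩ ?_)
  simp only [List.mem_flatMap, List.mem_map, Finset.mem_toList, Set.Finite.mem_toFinset]
  exact ⟨V.1, V.2, b, hb, rfl⟩

end Groth.Agent.M1
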