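import Groth.Agent.Lib.ModM1.Push
import Groth.Agent.Lib.ModM1.Coh
import Groth.Agent.Lib.ModM1.Stalk

/-!
M1: submodules of an O_X-module through their sections.
-/

universe u

open CategoryTheory Limits AlgebraicGeometry Opposite TopologicalSpace

set_option backward.isDefEq.respectTransparency false

namespace Groth.Agent.M1

variable {X : Scheme.{u}}

/-- A submodule. -/
structure Sub (F : X.Modules) where
  P : X.Modules
  i : P ⟶ F
  mono : Mono i

attribute [instance] Sub.mono

namespace Sub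

variable {F : X.Modules}

/-- The sections in a submodule. -/
def mem (p : Sub F) (T : X.Opens) (s : Γ(F, T)) : Prop := ∃ a : Γ(p.P, T), p.i.app T a = s

lemma mem_mres (p : Sub F) {T T' : X.Opens} (h : T' ≤ T) {s : Γ(F, T)} (hs : p.mem T s) :
    p.mem T' (mres F h s) := by
  obtain ⟨a, rfl⟩ := hs
  exact ⟨mres p.P h a, app_mres p.i h a⟩

lemma mem_smul (p : Sub F) {T : X.Opens} (r : Γ(X, T)) {s : Γ(F, T)} (hs : p.mem T s) :
    p.mem T (r • s) := by
  obtain ⟨a, rfl⟩ := hs
  exact ⟨r • a, p.i.app_smul r a⟩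

lemma mem_zero (p : Sub F) (T : X.Opens) : p.mem T 0 := ⟨0, map_zero _⟩

lemma mem_add (p : Sub F) {T : X.Opens} {s t : Γ(F, T)} (hs : p.mem T s) (ht : p.mem T t) :
    p.mem T (s + t) := by
  obtain ⟨a, rfl⟩ := hs
  obtain ⟨b, rfl⟩ := ht
  exact ⟨a + b, map_add _ a b⟩

lemma mem_congr (p : Sub F) {T T' : X.Opens} (e : T = T') (s : Γ(F, T)) :
    p.mem T' (mres F e.ge s) ↔ p.mem T s :=
  ⟨fun h => by simpa [mres_mres] using p.mem_mres e.le h, fun h => p.mem_mres e.ge h⟩

lemma mem_iff_cokernel (p : Sub F) (T : X.Opens) (s : Γ(F, T)) :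
    p.mem T s ↔ (cokernel.π p.i).app T s = 0 := by
  constructor
  · rintro ⟨a, rfl⟩
    rw [← comp_app_apply, cokernel.condition]
    rfl
  · intro h
    exact sections_exact (S := ShortComplex.mk p.i (cokernel.π p.i) (cokernel.condition _))
      (ShortComplex.exact_cokernel p.i) T s h

/-- Membership is local. -/
lemma mem_of_locally (p : Sub F) {T : X.Opens} (s : Γ(F, T))
    (h : ∀ x ∈ T, ∃ (V : X.Opens) (hV : V ≤ T), x ∈ V ∧ p.mem V (mres F hV s)) : p.mem T s := by
  rw [mem_iff_cokernel]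
  refine section_ext _ _ fun x hx => ?_
  obtain ⟨V, hV, hxV, hm⟩ := h x hx
  rw [mem_iff_cokernel] at hm
  rw [← germ_mres _ hV hxV, ← app_mres, hm, map_zero, map_zero]

/-- A factorisation from an inclusion of sections. -/
lemma exists_lift {M : X.Modules} (a : M ⟶ F) (p : Sub F)
    (h : ∀ T (m : Γ(M, T)), p.mem T (a.app T m)) : ∃ c : M ⟶ p.P, c ≫ p.i = a := by
  have h0 : a ≫ cokernel.π p.i = 0 := by
    ext T m
    exact (comp_app_apply a (cokernel.π p.i) T m).trans ((p.mem_iff_cokernel T _).mp (h T m))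
  exact ⟨Abelian.monoLift p.i a h0, Abelian.monoLift_comp _ _ _⟩

/-- Submodules with the same sections are isomorphic. -/
lemma exists_iso (p q : Sub F) (h : ∀ T s, p.mem T s ↔ q.mem T s) :
    ∃ e : p.P ≅ q.P, e.hom ≫ q.i = p.i := by
  obtain ⟨c, hc⟩ := exists_lift p.i q fun T m => (h T _).mp ⟨m, rfl⟩
  obtain ⟨d, hd⟩ := exists_lift q.i p fun T m => (h T _).mpr ⟨m, rfl⟩
  exact ⟨⟨c, d, by rw [← cancel_mono p.i, Category.assoc, hd, hc, Category.id_comp],
    by rw [← cancel_mono q.i, Category.assoc, hc, hd, Category.id_comp]⟩, hc⟩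

/-- The kernel of a morphism as a submodule. -/
noncomputable def ker {Q : X.Modules} (φ : F ⟶ Q) : Sub F := ⟨kernel φ, kernel.ι φ, inferInstance⟩

lemma mem_ker {Q : X.Modules} (φ : F ⟶ Q) (T : X.Opens) (s : Γ(F, T)) :
    (ker φ).mem T s ↔ φ.app T s = 0 := by
  constructor
  · rintro ⟨a, rfl⟩
    change φ.app T ((kernel.ι φ).app T a) = 0
    rw [← comp_app_apply, kernel.condition]
    rfl
  · intro h
    exact sections_exact (S := ShortComplex.mk (kernel.ι φ) φ (kernel.condition _))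
      (ShortComplex.exact_kernel φ) T s h

/-- The image of a morphism as a submodule. -/
noncomputable def im {M : X.Modules} (q : M ⟶ F) : Sub F := ker (cokernel.π q)

lemma im_mem_app {M : X.Modules} (q : M ⟶ F) (T : X.Opens) (m : Γ(M, T)) :
    (im q).mem T (q.app T m) := by
  rw [im, mem_ker, ← comp_app_apply, cokernel.condition]
  rfl

/-- The image lies in every submodule through which the morphism factors. -/
lemma im_le {M : X.Modules} (q : M ⟶ F) (p : Sub F) (h : ∀ T (m : Γ(M, T)), p.mem T (q.app T m))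
    (T : X.Opens) (s : Γ(F, T)) (hs : (im q).mem T s) : p.mem T s := by
  obtain ⟨c, hc⟩ := exists_lift q p h
  have h0 : q ≫ cokernel.π p.i = 0 := by rw [← hc, Category.assoc, cokernel.condition, comp_zero]
  rw [im, mem_ker] at hs
  rw [mem_iff_cokernel, ← cokernel.π_desc q (cokernel.π p.i) h0, comp_app_apply, hs, map_zero]

instance epi_toIm {M : X.Modules} (q : M ⟶ F) :
    Epi (kernel.lift (cokernel.π q) q (cokernel.condition q)) :=
  inferInstanceAs (Epi (Abelian.factorThruImage q))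

lemma isFT_im {M : X.Modules} (q : M ⟶ F) (hM : CohB1.IsFT M) : CohB1.IsFT (im q).P :=
  isFT_of_epi (kernel.lift (cokernel.π q) q (cokernel.condition q)) hM

lemma isQCoh_im {M : X.Modules} (q : M ⟶ F) (hM : Coh.IsQCoh M) (hF : Coh.IsQCoh F) :
    Coh.IsQCoh (im q).P :=
  isQCoh_kernel hF (isQCoh_cokernel hM hF q) _

/-- Restriction of a submodule to an open immersion. -/
noncomputable def res {Y : Scheme.{u}} (j : Y ⟶ X) [IsOpenImmersion j] (p : Sub F) : Sub (F.restrict j) :=
  ⟨p.P.restrict j, (Scheme.Modules.restrictFunctor j).map p.i, inferInstance⟩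

lemma mem_res {Y : Scheme.{u}} (j : Y ⟶ X) [IsOpenImmersion j] (p : Sub F) (T : Y.Opens)
    (s : Γ(F, j ''ᵁ T)) : (p.res j).mem T s ↔ p.mem (j ''ᵁ T) s := Iff.rfl

/-- The largest extension of a submodule from an open. -/
noncomputable def ext {Y : Scheme.{u}} (j : Y ⟶ X) [IsOpenImmersion j] (H : Sub (F.restrict j)) : Sub F :=
  ker ((Scheme.Modules.restrictAdjunction j).unit.app F ≫
    (Scheme.Modules.pushforward j).map (cokernel.π H.i))

lemma mem_ext {Y : Scheme.{u}} (j : Y ⟶ X) [IsOpenImmersion j] (H : Sub (F.restrict j)) (T : X.Opens)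
    (s : Γ(F, T)) :
    (ext j H).mem T s ↔ H.mem (j ⁻¹ᵁ T) (mres F (j.image_preimage_le T) s) :=
  (mem_ker _ T s).trans (mem_iff_cokernel H _ _).symm

lemma mem_ext_res {Y : Scheme.{u}} (j : Y ⟶ X) [IsOpenImmersion j] (p : Sub F) (T : X.Opens)
    (s : Γ(F, T)) :
    (ext j (p.res j)).mem T s ↔ p.mem (T ⊓ j.opensRange) (mres F inf_le_left s) := by
  rw [mem_ext]
  refine (mem_res j p _ _).trans ?_
  have e : j ''ᵁ j ⁻¹ᵁ T = T ⊓ j.opensRange := by
    rw [Scheme.Hom.image_preimage_eq_opensRange_inf, inf_comm]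
  rw [← p.mem_congr e, mres_mres]

/-- Restricting the extension gives back the submodule. -/
lemma mem_res_ext {Y : Scheme.{u}} (j : Y ⟶ X) [IsOpenImmersion j] (H : Sub (F.restrict j))
    (T : Y.Opens) (s : Γ(F, j ''ᵁ T)) : ((ext j H).res j).mem T s ↔ H.mem T s := by
  refine ((mem_res j (ext j H) T s).trans (mem_ext j H _ s)).trans ?_
  exact H.mem_congr (j.preimage_image_eq T).symm s

lemma isQCoh_ext {Y : Scheme.{u}} (j : Y ⟶ X) [IsOpenImmersion j] [QuasiCompact j]
    (hF : Coh.IsQCoh F) (H : Sub (F.restrict j)) (hH : Coh.IsQCoh H.P) : Coh.IsQCoh (ext j H).P :=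
  isQCoh_kernel hF (isQCoh_push j (isQCoh_cokernel hH (isQCoh_restrict hF j) _)) _

/-- Submodules agreeing below the range of an open immersion restrict to isomorphic modules. -/
lemma exists_res_iso {Y : Scheme.{u}} (j : Y ⟶ X) [IsOpenImmersion j] (p q : Sub F)
    (h : ∀ T ≤ j.opensRange, ∀ s, p.mem T s ↔ q.mem T s) :
    ∃ e : p.P.restrict j ≅ q.P.restrict j,
      e.hom ≫ (Scheme.Modules.restrictFunctor j).map q.i = (Scheme.Modules.restrictFunctor j).map p.i :=
  exists_iso (p.res j) (q.res j) fun T s => h (j ''ᵁ T) (j.image_le_opensRange T) s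

end Sub

end Groth.Agent.M1
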